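import Groth.Agent.GLinExtLib.Lift
import Groth.Agent.GLinTotLib.Pull
import Groth.Agent.DiscExtLib.Glue

/-!
# The line bundle of a divisor given by local equations
-/

set_option autoImplicit false
set_option backward.isDefEq.respectTransparency false
set_option synthInstance.maxHeartbeats 400000
set_option maxHeartbeats 1000000
set_option linter.style.haveILetI false
set_option linter.unusedSectionVars false

universe u

open CategoryTheory CategoryTheory.Limits AlgebraicGeometry TopologicalSpace Opposite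
open AmpleLib (res GenOn)
open DiscExtLib (triv cut cut_le cut_le_left le_cut cut_mono fn fn_smul fn_map)

noncomputable section

namespace GLinExtLib

variable {S : Scheme.{u}} {X : Over S}

/-- Local equations of a divisor disjoint from `W`. -/
structure CartData (W : X.left.Opens) where
  I : Type u
  U : I → X.left.Opens
  aff : ∀ α, IsAffineOpen (U α)
  cov : ∀ x, ∃ α, x ∈ U α
  h : ∀ α, Γ(X.left, U α)
  unit : ∀ α, IsUnit (rs (inf_le_left : U α ⊓ W ≤ U α) (h α))
  tr : ∀ α β, ∃ c : Γ(X.left, U α ⊓ U β), IsUnit c ∧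
    rs (inf_le_right : U α ⊓ U β ≤ U β) (h β) = c * rs (inf_le_left : U α ⊓ U β ≤ U α) (h α)
  dn : Dn X.left W

variable {W : X.left.Opens} (C : CartData W)

theorem cut_le_inf (O : X.left.Opens) : cut W O ≤ O ⊓ W := le_inf (cut_le W O) (cut_le_left W O)

/-- The functions on `W` with poles bounded by the divisor. -/
def CartData.sheafSub : QCohLib.LocSub (triv W) where
  mem O a := ∀ x ∈ O, ∀ α, x ∈ C.U α → ∃ (O' : X.left.Opens) (h1 : O' ≤ O) (h2 : O' ≤ C.U α), x ∈ O' ∧
    ∃ c : Γ(X.left, O'), rs (cut_le W O') c = rs (cut_mono W h1) (fn a) * rs ((cut_le W O').trans h2) (C.h α)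
  zero O x hx α hα := ⟨O ⊓ C.U α, inf_le_left, inf_le_right, ⟨hx, hα⟩, 0, by
    simp [rs, show fn (0 : Γ(triv W, O)) = 0 from rfl]⟩
  add {O a b} ha hb x hx α hα := by
    obtain ⟨O₁, h1, h2, hx₁, c₁, hc₁⟩ := ha x hx α hα
    obtain ⟨O₂, h1', h2', hx₂, c₂, hc₂⟩ := hb x hx α hα
    refine ⟨O₁ ⊓ O₂, inf_le_left.trans h1, inf_le_left.trans h2, ⟨hx₁, hx₂⟩,
      rs inf_le_left c₁ + rs inf_le_right c₂, ?_⟩
    have e₁ := congrArg (rs (cut_mono W (inf_le_left : O₁ ⊓ O₂ ≤ O₁))) hc₁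
    have e₂ := congrArg (rs (cut_mono W (inf_le_right : O₁ ⊓ O₂ ≤ O₂))) hc₂
    simp only [rs, map_mul, map_add] at e₁ e₂ ⊢
    simp only [← ConcreteCategory.comp_apply, ← Functor.map_comp] at e₁ e₂ ⊢
    rw [add_mul]
    exact congrArg₂ (· + ·) e₁ e₂
  smul {O} r {a} ha x hx α hα := by
    obtain ⟨O', h1, h2, hx', c, hc⟩ := ha x hx α hα
    refine ⟨O', h1, h2, hx', rs h1 r * c, ?_⟩
    rw [fn_smul]
    simp only [rs, map_mul] at hc ⊢
    simp only [← ConcreteCategory.comp_apply, ← Functor.map_comp] at hc ⊢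
    rw [hc, mul_assoc]
    rfl
  res {O O'} hle {a} ha x hx α hα := by
    obtain ⟨O₁, h1, h2, hx₁, c, hc⟩ := ha x (hle hx) α hα
    refine ⟨O₁ ⊓ O', inf_le_right, inf_le_left.trans h2, ⟨hx₁, hx⟩, rs inf_le_left c, ?_⟩
    have e₁ := congrArg (rs (cut_mono W (inf_le_left : O₁ ⊓ O' ≤ O₁))) hc
    rw [fn_map hle a]
    simp only [rs, map_mul] at e₁ ⊢
    simp only [← ConcreteCategory.comp_apply, ← Functor.map_comp] at e₁ ⊢
    exact e₁
  local' {O} a ha x hx α hα := by
    obtain ⟨O', h, hxO', hm⟩ := ha x hx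
    obtain ⟨O₁, h1, h2, hx₁, c, hc⟩ := hm x hxO' α hα
    refine ⟨O₁, h1.trans h, h2, hx₁, c, ?_⟩
    rw [hc, fn_map h a]
    exact congrArg (· * _) (rs_rs _ _ _)

/-- The sheaf. -/
abbrev CartData.L : X.left.Modules := C.sheafSub.toModules

theorem exists_gen (β : C.I) : ∃ e : Γ(C.L, C.U β),
    fn (C.sheafSub.ι.app (C.U β) e) * rs (cut_le W (C.U β)) (C.h β) = 1 := by
  have hu := (C.unit β).map (X.left.presheaf.map (homOfLE (cut_le_inf (W := W) (C.U β))).op).hom
  have hu' : IsUnit (rs (cut_le W (C.U β)) (C.h β)) := by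
    rw [← rs_rs (inf_le_left : C.U β ⊓ W ≤ C.U β) (cut_le_inf (C.U β))]; exact hu
  obtain ⟨v, hv⟩ := hu'.exists_left_inv
  refine ⟨C.sheafSub.lift (show Γ(triv W, C.U β) from v) fun x hx α hα => ?_, by rw [QCohLib.LocSub.ι_lift]; exact hv⟩
  obtain ⟨c, hc, hrel⟩ := C.tr β α
  refine ⟨C.U β ⊓ C.U α, inf_le_left, inf_le_right, ⟨hx, hα⟩, c, ?_⟩
  have hle := cut_le W (C.U β ⊓ C.U α)
  rw [← rs_rs (inf_le_right : C.U β ⊓ C.U α ≤ C.U α) hle, hrel, rs, rs, rs, map_mul, ← mul_assoc,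
    mul_comm _ (X.left.presheaf.map (homOfLE hle).op c), mul_assoc]
  refine (mul_one _).symm.trans (congrArg _ ?_)
  have := congrArg (rs (cut_mono W (inf_le_left : C.U β ⊓ C.U α ≤ C.U β))) hv
  simp only [rs, map_mul, map_one] at this ⊢
  simp only [← ConcreteCategory.comp_apply, ← Functor.map_comp] at this ⊢
  exact this.symm

/-- The generator over `U β`. -/
def CartData.gen (β : C.I) : Γ(C.L, C.U β) := (exists_gen C β).choose

theorem CartData.gen_spec (β : C.I) :
    fn (C.sheafSub.ι.app (C.U β) (C.gen β)) * rs (cut_le W (C.U β)) (C.h β) = 1 := (exists_gen C β).choose_spec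

theorem CartData.fn_smul_gen {β : C.I} {O : X.left.Opens} (hle : O ≤ C.U β) (r : Γ(X.left, O)) :
    fn (C.sheafSub.ι.app O (r • res C.L hle (C.gen β))) * rs ((cut_le W O).trans hle) (C.h β) =
      rs (cut_le W O) r := by
  rw [QCohLib.app_smul, fn_smul]
  have e : fn (C.sheafSub.ι.app O (res C.L hle (C.gen β))) = rs (cut_mono W hle) (fn (C.sheafSub.ι.app _ (C.gen β))) :=
    (congrArg fn (QCohLib.app_map C.sheafSub.ι (homOfLE hle) (C.gen β))).trans (fn_map hle _)
  have := congrArg (rs (cut_mono W hle)) (C.gen_spec β)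
  simp only [rs, map_mul, map_one] at this
  rw [e, mul_assoc]
  refine Eq.trans (congrArg _ ?_) (mul_one _)
  refine Eq.trans (congrArg _ ?_) this
  exact (rs_rs (cut_le W _) _ _).symm

theorem CartData.rs_injective (C : CartData W) {O : X.left.Opens} (r r' : Γ(X.left, O))
    (h : rs (cut_le W O) r = rs (cut_le W O) r') : r = r' := by
  refine C.dn O r r' ?_
  have := congrArg (rs (le_cut W O)) h
  rwa [rs_rs, rs_rs] at this

theorem CartData.isUnit_h {β : C.I} {O : X.left.Opens} (hle : O ≤ C.U β) :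
    IsUnit (rs ((cut_le W O).trans hle) (C.h β)) := by
  have hu := (C.unit β).map (X.left.presheaf.map
    (homOfLE ((cut_le_inf (W := W) O).trans (inf_le_inf_right W hle))).op).hom
  rw [← rs_rs (inf_le_left : C.U β ⊓ W ≤ C.U β) ((cut_le_inf O).trans (inf_le_inf_right W hle))]
  exact hu

theorem CartData.genOn (β : C.I) : GenOn C.L (C.gen β) := by
  intro O hle
  refine ⟨fun r r' h => ?_, fun m => ?_⟩
  · refine C.rs_injective r r' ?_
    rw [← C.fn_smul_gen hle r, ← C.fn_smul_gen hle r']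
    exact congrArg (fun z => fn (C.sheafSub.ι.app O z) * _) h
  · have hm := C.sheafSub.ι_app_mem m
    have hloc : ∀ x : O, ∃ (O' : X.left.Opens) (h1 : O' ≤ O), (x : X.left) ∈ O' ∧ ∃ c : Γ(X.left, O'),
        rs (cut_le W O') c = rs (cut_mono W h1) (fn (C.sheafSub.ι.app O m)) *
          rs ((cut_le W O').trans (h1.trans hle)) (C.h β) := fun x => by
      obtain ⟨O', h1, h2, hx', c, hc⟩ := hm x x.2 β (hle x.2)
      exact ⟨O', h1, hx', c, hc⟩
    choose O' h1 hx' c hc using hloc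
    have hcompat : TopCat.Presheaf.IsCompatible X.left.presheaf O' c := by
      intro i j
      refine C.rs_injective _ _ ?_
      have ei := congrArg (rs (cut_mono W (inf_le_left : O' i ⊓ O' j ≤ O' i))) (hc i)
      have ej := congrArg (rs (cut_mono W (inf_le_right : O' i ⊓ O' j ≤ O' j))) (hc j)
      simp only [rs, map_mul] at ei ej
      simp only [rs, ← ConcreteCategory.comp_apply, ← Functor.map_comp] at ei ej ⊢
      exact ei.trans ej.symm
    obtain ⟨r₀, hr, -⟩ := X.left.sheaf.existsUnique_gluing' O' O (fun i => homOfLE (h1 i))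
      (fun y hy => Opens.mem_iSup.2 ⟨⟨y, hy⟩, hx' ⟨y, hy⟩⟩) c hcompat
    let r : Γ(X.left, O) := r₀
    replace hr : ∀ i, rs (h1 i) r = c i := hr
    refine ⟨r, C.sheafSub.ι_app_injective O ?_⟩
    show fn (C.sheafSub.ι.app O (r • res C.L hle (C.gen β))) = fn (C.sheafSub.ι.app O m)
    refine (C.isUnit_h hle).mul_right_cancel ?_
    rw [C.fn_smul_gen hle r]
    refine TopCat.Presheaf.section_ext X.left.sheaf _ _ _ fun y hy => ?_
    have hyO : y ∈ O := cut_le W O hy
    let i : O := ⟨y, hyO⟩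
    refine TopCat.Presheaf.germ_ext _ (cut W (O' i)) (le_cut W _ ⟨hx' i, cut_le_left W O hy⟩)
      (homOfLE (cut_mono W (h1 i))) (homOfLE (cut_mono W (h1 i))) ?_
    have e := hc i
    rw [← hr i] at e
    show rs (cut_mono W (h1 i)) (rs (cut_le W O) r) = rs (cut_mono W (h1 i)) (_ * rs ((cut_le W O).trans hle) (C.h β))
    simp only [rs, map_mul] at e ⊢
    simp only [← ConcreteCategory.comp_apply, ← Functor.map_comp] at e ⊢
    exact e

theorem CartData.invertible : PicF.IsInvertible C.L :=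
  TwistLib.isInvertible_of_genOn C.U C.cov C.gen C.genOn

instance : Coh.IsQCoh C.L := TwistLib.isQCoh_of_isInvertible C.invertible

/-- The coordinate over `U β`. -/
def CartData.y (β : C.I) : Γ((GLinTotLib.VX (𝟙 X) C.L).left, (GLinTotLib.prX (𝟙 X) C.L).left ⁻¹ᵁ C.U β) :=
  (GLinTotLib.qY (𝟙 X) C.L).left.appLE _ _ (GLinTotLib.preimage_le (𝟙 X) C.L (C.U β)) (GLinTotLib.linFn C.L (C.gen β))

theorem exists_sect {a : Γ(X.left, W)} (c : ∀ α, Γ(X.left, C.U α))
    (hc : ∀ α, rs (inf_le_left : C.U α ⊓ W ≤ C.U α) (c α) =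
      rs (inf_le_right : C.U α ⊓ W ≤ W) a * rs (inf_le_left : C.U α ⊓ W ≤ C.U α) (C.h α)) :
    ∃ F : Γ((GLinTotLib.VX (𝟙 X) C.L).left, ⊤), ∀ α,
      GLinSh.resTop (GLinTotLib.prX (𝟙 X) C.L) (C.U α) F =
        (GLinTotLib.prX (𝟙 X) C.L).left.app (C.U α) (c α) * C.y α := by
  have hc' : ∀ α (O : X.left.Opens) (hle : O ≤ C.U α), rs (cut_le W O) (rs hle (c α)) =
      rs (cut_le_left W O) a * rs ((cut_le W O).trans hle) (C.h α) := fun α O hle => by
    have := congrArg (rs ((cut_le_inf (W := W) O).trans (inf_le_inf_right W hle))) (hc α)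
    simp only [rs, map_mul] at this
    simp only [rs, ← ConcreteCategory.comp_apply, ← Functor.map_comp] at this ⊢
    exact this
  let a₁ : Γ(X.left, cut W ⊤) := rs (cut_le_left W ⊤) a
  let a₀ : Γ(triv W, ⊤) := a₁
  have hmem : C.sheafSub.mem ⊤ a₀ := fun x _ α hα =>
    ⟨C.U α, le_top, le_rfl, hα, c α, by
      have := hc' α (C.U α) le_rfl
      rw [rs_self] at this
      rw [this]
      exact congrArg (· * _) (rs_rs (cut_le_left W ⊤) _ a).symm⟩
  refine ⟨GLinTotLib.sect (𝟙 X) C.L (C.sheafSub.lift a₀ hmem), fun α => ?_⟩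
  refine GLinTotLib.coeff_sect (𝟙 X) C.L _ (U' := C.U α) (e := C.gen α) (r := c α) ?_
    (GLinTotLib.preimage_le (𝟙 X) C.L (C.U α))
  refine C.sheafSub.ι_app_injective (C.U α) ?_
  show fn (C.sheafSub.ι.app _ (c α • C.gen α)) = fn (C.sheafSub.ι.app _ _)
  refine (C.isUnit_h (β := α) le_rfl).mul_right_cancel ?_
  have h1 := C.fn_smul_gen (le_refl (C.U α)) (c α)
  rw [AmpleLib.res_refl] at h1
  have h2 := hc' α (C.U α) le_rfl
  rw [rs_self] at h2
  refine h1.trans (h2.trans (congrArg (· * _) ?_))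
  refine Eq.trans (rs_rs (cut_le_left W ⊤) (cut_mono W le_top) a).symm ?_
  exact ((congrArg fn (QCohLib.app_map C.sheafSub.ι (homOfLE le_top) (C.sheafSub.lift a₀ hmem))).trans
    (fn_map le_top _)).symm

/-- The global function with coefficients the equations. -/
theorem exists_s : ∃ F : Γ((GLinTotLib.VX (𝟙 X) C.L).left, ⊤), ∀ α,
    GLinSh.resTop (GLinTotLib.prX (𝟙 X) C.L) (C.U α) F =
      (GLinTotLib.prX (𝟙 X) C.L).left.app (C.U α) (C.h α) * C.y α :=
  exists_sect C (a := 1) C.h fun α => by rw [rs, rs, map_one, one_mul]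

/-- The line bundle of the divisor. -/
def CartData.lin : LinData W where
  I := C.I
  U := C.U
  aff := C.aff
  cov := C.cov
  V := GLinTotLib.VX (𝟙 X) C.L
  π := GLinTotLib.prX (𝟙 X) C.L
  affine := show IsAffineHom (pullback.fst (𝟙 X : X ⟶ X).left _) from MorphismProperty.pullback_fst _ _ inferInstance
  y := C.y
  coord α := by
    haveI : IsAffineHom (𝟙 X : X ⟶ X).left := inferInstanceAs (IsAffineHom (𝟙 X.left))
    exact GLinTotLib.isFibreCoord (𝟙 X) C.L (GLinTotLib.mem_chart (𝟙 X) C.L (C.gen α) (C.aff α) (C.genOn α))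
  linear α β := by
    haveI : IsAffineHom (𝟙 X : X ⟶ X).left := inferInstanceAs (IsAffineHom (𝟙 X.left))
    exact (GLinTotLib.atlas (𝟙 X) C.L C.invertible).linear (C.U α) (C.U β) (C.y α) (C.y β)
      (GLinTotLib.mem_chart (𝟙 X) C.L (C.gen α) (C.aff α) (C.genOn α))
      (GLinTotLib.mem_chart (𝟙 X) C.L (C.gen β) (C.aff β) (C.genOn β))
  h := C.h
  unit := C.unit
  s := (exists_s C).choose
  hs := (exists_s C).choose_spec

end GLinExtLib
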