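import Groth.Agent.GLinExtLib.RadEq
import Groth.Agent.AffCodimLib.Apply
import Mathlib

/-!
# Local equations of the components of the complement of an affine open
-/

set_option autoImplicit false
set_option backward.isDefEq.respectTransparency false
set_option synthInstance.maxHeartbeats 400000
set_option maxHeartbeats 1000000
set_option linter.style.haveILetI false
set_option linter.unusedSectionVars false

universe u

open CategoryTheory CategoryTheory.Limits AlgebraicGeometry TopologicalSpace Opposite Topology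

noncomputable section

namespace GLinExtLib

variable {X : Scheme.{u}}

theorem fromSpec_specializes_iff {U : X.Opens} (hU : IsAffineOpen U) (a b : PrimeSpectrum Γ(X, U)) :
    hU.fromSpec a ⤳ hU.fromSpec b ↔ a.asIdeal ≤ b.asIdeal :=
  hU.fromSpec.isOpenEmbedding.isInducing.specializes_iff.trans (PrimeSpectrum.le_iff_specializes a b).symm

theorem mem_basicOpen_fromSpec {U : X.Opens} (hU : IsAffineOpen U) (a : PrimeSpectrum Γ(X, U)) (s : Γ(X, U)) :
    hU.fromSpec a ∈ X.basicOpen s ↔ s ∉ a.asIdeal := by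
  show a ∈ hU.fromSpec ⁻¹ᵁ X.basicOpen s ↔ _
  rw [hU.fromSpec_preimage_basicOpen]
  rfl

theorem exists_fromSpec {U : X.Opens} (hU : IsAffineOpen U) {z : X} (hz : z ∈ U) :
    ∃ a : PrimeSpectrum Γ(X, U), hU.fromSpec a = z := by
  obtain ⟨a, ha⟩ := hU.range_fromSpec.ge hz
  exact ⟨a, ha⟩

/-- A generic point of a component of the complement of `W`. -/
def IsMaxCompl (W : X.Opens) (q : X) : Prop := q ∉ W ∧ ∀ y, y ∉ W → y ⤳ q → y = q

theorem exists_maxCompl (W : X.Opens) [NoetherianSpace X] :
    {q | IsMaxCompl W q}.Finite ∧ ∀ x, x ∉ W → ∃ q, IsMaxCompl W q ∧ q ⤳ x := by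
  let C : Set X := (W : Set X)ᶜ
  have hC : IsClosed C := W.isOpen.isClosed_compl
  haveI : QuasiSober C := hC.isClosedEmbedding_subtypeVal.quasiSober
  haveI : NoetherianSpace C := hC.isClosedEmbedding_subtypeVal.isInducing.noetherianSpace
  have key : ∀ c : C, IsMaxCompl W c.1 ↔ closure {c} ∈ irreducibleComponents C := by
    intro c
    constructor
    · intro hc
      refine ⟨isIrreducible_singleton.closure, fun Z hZ hle => ?_⟩
      obtain ⟨η, hη⟩ := QuasiSober.sober hZ.closure isClosed_closure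
      have hηc : η ⤳ c := hη.specializes (subset_closure (hle (subset_closure rfl)))
      have h1 : η = c := Subtype.ext (hc.2 η.1 η.2 (hηc.map continuous_subtype_val))
      subst h1
      exact fun z hz => hη.ge (subset_closure hz)
    · intro hc
      refine ⟨c.2, fun y hy hyc => ?_⟩
      let y' : C := ⟨y, hy⟩
      have h1 : y' ⤳ c := IsInducing.subtypeVal.specializes_iff.1 hyc
      have h2 : closure ({c} : Set C) = closure {y'} :=
        le_antisymm (closure_minimal (Set.singleton_subset_iff.2 h1.mem_closure) isClosed_closure)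
          (hc.2 isIrreducible_singleton.closure
            (closure_minimal (Set.singleton_subset_iff.2 h1.mem_closure) isClosed_closure))
      exact congrArg Subtype.val ((show IsGenericPoint y' (closure {c}) from h2.symm).eq (show IsGenericPoint c _ from rfl))
  refine ⟨?_, fun x hx => ?_⟩
  · have hfin := NoetherianSpace.finite_irreducibleComponents (α := C)
    have hinj : ∀ c c' : C, closure ({c} : Set C) = closure {c'} → c = c' := fun c c' e =>
      (show IsGenericPoint c (closure {c'}) from e).eq (show IsGenericPoint c' _ from rfl)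
    have hf : {c : C | closure ({c} : Set C) ∈ irreducibleComponents C}.Finite :=
      hfin.preimage (f := fun c : C => closure ({c} : Set C)) fun c _ c' _ e => hinj c c' e
    refine (hf.image Subtype.val).subset fun q hq => ⟨⟨q, hq.1⟩, (key ⟨q, hq.1⟩).1 hq, rfl⟩
  · let x' : C := ⟨x, hx⟩
    obtain ⟨η, hη⟩ := QuasiSober.sober (isIrreducible_irreducibleComponent (x := x')) isClosed_irreducibleComponent
    refine ⟨η.1, (key η).2 ?_, (hη.specializes mem_irreducibleComponent).map continuous_subtype_val⟩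
    rw [hη.def]
    exact irreducibleComponent_mem_irreducibleComponents x'

/-- Height of the point of an affine open. -/
theorem height_fromSpec {U : X.Opens} (hU : IsAffineOpen U) (a : PrimeSpectrum Γ(X, U)) :
    ((a.asIdeal.height : ℕ∞) : WithBot ℕ∞) = ringKrullDim (X.presheaf.stalk (hU.fromSpec a)) :=
  AffCodimLib.height_eq_stalk hU a

theorem height_eq_one [IsLocallyNoetherian X] {W : X.Opens} [IsAffineHom W.ι] (hW : Dense (W : Set X))
    {q : X} (hq : IsMaxCompl W q) {U : X.Opens} (hU : IsAffineOpen U) (a : PrimeSpectrum Γ(X, U))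
    (ha : hU.fromSpec a = q) : a.asIdeal.height = 1 := by
  have h := height_fromSpec hU a
  rw [ha] at h
  have h1 := AffCodimLib.dim_le_one_of_affine W q hq.1 hq.2
  have h0 := AffCodimLib.dim_ne_zero_of_dense W hW q hq.1
  rw [← h] at h1 h0
  have h1' : a.asIdeal.height ≤ 1 := by exact_mod_cast h1
  have h0' : a.asIdeal.height ≠ 0 := by exact_mod_cast h0
  exact le_antisymm h1' (Order.one_le_iff_pos.2 (pos_iff_ne_zero.2 h0'))

theorem exists_isEq_nhd [IsIntegral X] [IsLocallyNoetherian X] (hufd : ∀ x : X, UniqueFactorizationMonoid (X.presheaf.stalk x))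
    {W : X.Opens} [IsAffineHom W.ι] (hW : Dense (W : Set X)) {q : X} (hq : IsMaxCompl W q) (x : X) :
    ∃ (V : X.Opens), IsAffineOpen V ∧ x ∈ V ∧ ∃ t : Γ(X, V), IsEq (closure {q}) V t := by
  by_cases hx : q ⤳ x
  swap
  · obtain ⟨V, hV, hxV, hle⟩ := exists_isAffineOpen_mem_and_subset (x := x)
      (U := ⟨(closure {q})ᶜ, isClosed_closure.isOpen_compl⟩) (fun h => hx (specializes_iff_mem_closure.2 h))
    exact ⟨V, hV, hxV, 1, fun z hz => by simp [Scheme.basicOpen_of_isUnit X isUnit_one, hz]; exact hle hz,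
      by rw [Ideal.span_singleton_one]; exact Ideal.radical_top _ |>.le⟩
  obtain ⟨U, hU, hxU, -⟩ := exists_isAffineOpen_mem_and_subset (x := x) (U := ⊤) trivial
  haveI : Nonempty U := ⟨⟨x, hxU⟩⟩
  haveI : IsNoetherianRing Γ(X, U) := IsLocallyNoetherian.component_noetherian ⟨U, hU⟩
  obtain ⟨P, hP⟩ := exists_fromSpec hU (hx.mem_open U.2 hxU)
  obtain ⟨M, hM⟩ := exists_fromSpec hU hxU
  have hPM : P.asIdeal ≤ M.asIdeal := (fromSpec_specializes_iff hU P M).1 (hP ▸ hM ▸ hx)
  have hht := height_eq_one hW hq hU P hP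
  let O := Localization.AtPrime M.asIdeal
  haveI : UniqueFactorizationMonoid O := by
    have hxM : hU.fromSpec M ∈ U := hM ▸ hxU
    let _ := TopCat.Presheaf.algebra_section_stalk X.presheaf (⟨_, hxM⟩ : U)
    haveI := hU.isLocalization_stalk ⟨_, hxM⟩
    have he : hU.primeIdealOf ⟨_, hxM⟩ = M :=
      hU.fromSpec.isOpenEmbedding.injective (hU.fromSpec_primeIdealOf ⟨_, hxM⟩)
    haveI : IsLocalization.AtPrime (X.presheaf.stalk (hU.fromSpec M)) M.asIdeal := by
      have h := hU.isLocalization_stalk ⟨_, hxM⟩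
      rwa [he] at h
    haveI := hufd (hU.fromSpec M)
    exact (IsLocalization.algEquiv M.asIdeal.primeCompl (X.presheaf.stalk (hU.fromSpec M)) O).toMulEquiv.uniqueFactorizationMonoid
      inferInstance
  let P' := P.asIdeal.map (algebraMap Γ(X, U) O)
  have hdisj : Disjoint (M.asIdeal.primeCompl : Set Γ(X, U)) (P.asIdeal : Set Γ(X, U)) :=
    Set.disjoint_left.2 fun s hs hs' => hs (hPM hs')
  haveI hP' : P'.IsPrime := IsLocalization.isPrime_of_isPrime_disjoint M.asIdeal.primeCompl O _ P.2 hdisj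
  have hht' : P'.height = 1 := by
    rw [← IsLocalization.height_comap M.asIdeal.primeCompl P',
      IsLocalization.comap_map_of_isPrime_disjoint M.asIdeal.primeCompl O P.2 hdisj, hht]
  have hne : P' ≠ ⊥ := fun h => by rw [h, Ideal.height_bot] at hht'; exact zero_ne_one hht'
  obtain ⟨π, hπP, hπ⟩ := hP'.exists_mem_prime_of_ne_bot hne
  have hπeq : Ideal.span {π} = P' := by
    by_contra hne'
    haveI hsp : (Ideal.span {π}).IsPrime := (Ideal.span_singleton_prime hπ.ne_zero).2 hπ
    have hlt : Ideal.span {π} < P' := lt_of_le_of_ne (Ideal.span_le.2 (Set.singleton_subset_iff.2 hπP)) hne'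
    have h2 := Ideal.height_strict_mono_of_isPrime hlt
    rw [hht', ENat.lt_one_iff_eq_zero] at h2
    have hmin : Ideal.span {π} ∈ minimalPrimes O := Ideal.height_eq_zero_iff.1 h2
    rw [minimalPrimes_eq_minimals] at hmin
    exact hπ.ne_zero (Ideal.span_singleton_eq_bot.1 (le_antisymm (hmin.2 Ideal.isPrime_bot bot_le) bot_le))
  obtain ⟨t, s, rfl⟩ := IsLocalization.exists_mk'_eq M.asIdeal.primeCompl π
  have htP : t ∈ P.asIdeal := by
    rw [← IsLocalization.comap_map_of_isPrime_disjoint M.asIdeal.primeCompl O P.2 hdisj, Ideal.mem_comap]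
    rw [← IsLocalization.mk'_spec O t s]
    exact Ideal.mul_mem_right _ _ hπP
  have hloc : ∀ p ∈ P.asIdeal, ∃ g, g ∉ M.asIdeal ∧ t ∣ g * p := by
    intro p hp
    obtain ⟨z, hz⟩ := Ideal.mem_span_singleton'.1 (hπeq.ge (Ideal.mem_map_of_mem _ hp))
    obtain ⟨w, s', rfl⟩ := IsLocalization.exists_mk'_eq M.asIdeal.primeCompl z
    rw [← IsLocalization.mk'_mul, IsLocalization.mk'_eq_iff_eq_mul, ← map_mul] at hz
    obtain ⟨c, hc⟩ := (IsLocalization.eq_iff_exists M.asIdeal.primeCompl O).1 hz
    refine ⟨c * (s' * s : M.asIdeal.primeCompl), M.asIdeal.primeCompl.mul_mem c.2 (s' * s).2, c * w, ?_⟩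
    push_cast at hc ⊢
    linear_combination -hc
  obtain ⟨T, hT⟩ := (IsNoetherian.noetherian P.asIdeal : P.asIdeal.FG)
  choose! g hgM hg using hloc
  classical
  let G := ∏ p ∈ T, g p
  have hGM : G ∉ M.asIdeal := fun h => by
    obtain ⟨p, hp, hp'⟩ := (M.2.prod_mem_iff).1 h
    exact hgM p (hT ▸ Ideal.subset_span hp) hp'
  have hG : ∀ p ∈ P.asIdeal, t ∣ G * p := by
    intro p hp
    rw [← hT] at hp
    induction hp using Submodule.span_induction with
    | mem p hp =>
      exact (hg p (hT ▸ Ideal.subset_span hp)).trans (mul_dvd_mul_right (Finset.dvd_prod_of_mem g hp) p)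
    | zero => simp
    | add a b _ _ ha hb => rw [mul_add]; exact dvd_add ha hb
    | smul c a _ ha => rw [smul_eq_mul, mul_left_comm]; exact ha.mul_left c
  have hVU : X.basicOpen G ≤ U := X.basicOpen_le G
  refine ⟨X.basicOpen G, hU.basicOpen G, hM ▸ (mem_basicOpen_fromSpec hU M G).2 hGM, rs hVU t, ?_, ?_⟩
  · intro z hz
    rw [Scheme.basicOpen_res]
    obtain ⟨a, rfl⟩ := exists_fromSpec hU (hVU hz)
    have hGa : G ∉ a.asIdeal := (mem_basicOpen_fromSpec hU a G).1 hz
    have hcl : hU.fromSpec a ∈ closure ({q} : Set X) ↔ P.asIdeal ≤ a.asIdeal := by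
      rw [← specializes_iff_mem_closure, ← hP, fromSpec_specializes_iff hU]
    rw [hcl]
    show (_ ∧ _) ↔ _
    have hta : hU.fromSpec a ∈ X.basicOpen t ↔ t ∉ a.asIdeal := mem_basicOpen_fromSpec hU a t
    refine ⟨fun h hle => hta.1 h.2 (hle htP), fun h => ⟨hz, hta.2 fun ht => h fun p hp => ?_⟩⟩
    exact (a.2.mem_or_mem (Ideal.mem_of_dvd _ (hG p hp) ht)).resolve_left hGa
  · haveI : IsLocalization.Away G Γ(X, X.basicOpen G) := hU.isLocalization_basicOpen G
    have hGP : G ∉ P.asIdeal := fun h => hGM (hPM h)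
    have hd : Disjoint (Submonoid.powers G : Set Γ(X, U)) (P.asIdeal : Set Γ(X, U)) :=
      Set.disjoint_left.2 fun s hs' hs => by
        obtain ⟨n, rfl⟩ := hs'
        exact hGP (P.2.mem_of_pow_mem n hs)
    have hpr := IsLocalization.isPrime_of_isPrime_disjoint (Submonoid.powers G) Γ(X, X.basicOpen G) _ P.2 hd
    have e : Ideal.span {rs hVU t} = P.asIdeal.map (algebraMap Γ(X, U) Γ(X, X.basicOpen G)) := by
      refine le_antisymm (Ideal.span_le.2 (Set.singleton_subset_iff.2 (Ideal.mem_map_of_mem _ htP)))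
        (Ideal.map_le_iff_le_comap.2 fun p hp => Ideal.mem_span_singleton.2 ?_)
      have hu : IsUnit (algebraMap Γ(X, U) Γ(X, X.basicOpen G) G) := IsLocalization.Away.algebraMap_isUnit G
      obtain ⟨c, hc⟩ := hG p hp
      refine hu.dvd_mul_left.1 ⟨algebraMap Γ(X, U) Γ(X, X.basicOpen G) c, ?_⟩
      rw [← map_mul, hc, map_mul]
      rfl
    rw [e]
    exact hpr.isRadical

/-- An affine neighbourhood with equations for all the components. -/
theorem exists_isEq_all [IsIntegral X] [IsLocallyNoetherian X] [X.IsSeparated] (hufd : ∀ x : X, UniqueFactorizationMonoid (X.presheaf.stalk x))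
    {W : X.Opens} [IsAffineHom W.ι] (hW : Dense (W : Set X)) {J : Set X} (hfin : J.Finite)
    (hJ : ∀ q ∈ J, IsMaxCompl W q) (x : X) :
    ∃ V : X.Opens, IsAffineOpen V ∧ x ∈ V ∧ ∀ q ∈ J, ∃ t : Γ(X, V), IsEq (closure {q}) V t := by
  induction J, hfin using Set.Finite.induction_on with
  | empty =>
    obtain ⟨V, hV, hxV, -⟩ := exists_isAffineOpen_mem_and_subset (x := x) (U := ⊤) trivial
    exact ⟨V, hV, hxV, fun q hq => absurd hq (Set.notMem_empty q)⟩
  | @insert q J _ _ ih =>
    obtain ⟨V, hV, hxV, hE⟩ := ih fun p hp => hJ p (Set.mem_insert_of_mem q hp)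
    obtain ⟨V', hV', hxV', t, ht⟩ := exists_isEq_nhd hufd hW (hJ q (Set.mem_insert q J)) x
    have hVV : IsAffineOpen (V ⊓ V') := hV.inf hV'
    refine ⟨V ⊓ V', hVV, ⟨hxV, hxV'⟩, ?_⟩
    rintro p (rfl | hp)
    · exact ⟨_, ht.res hV' hVV inf_le_right⟩
    · obtain ⟨t', ht'⟩ := hE p hp
      exact ⟨_, ht'.res hV hVV inf_le_left⟩

end GLinExtLib
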