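import Groth.Agent.GLinExtLib.Coord
import Groth.Agent.AlgSpLib.ReducedSmooth

/-!
# Reduced local equations of closed subsets
-/

set_option autoImplicit false
set_option backward.isDefEq.respectTransparency false
set_option synthInstance.maxHeartbeats 400000
set_option maxHeartbeats 1000000
set_option linter.style.haveILetI false

universe u

open CategoryTheory CategoryTheory.Limits AlgebraicGeometry TopologicalSpace Opposite
open scoped TensorProduct

noncomputable section

namespace GLinExtLib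

/-- Quotients by radical ideals stay reduced along smooth ring maps. -/
theorem isRadical_map_of_smooth {A B : Type u} [CommRing A] [CommRing B] {f : A →+* B} (hf : f.Smooth)
    {I : Ideal A} (hI : I.IsRadical) : (I.map f).IsRadical := by
  algebraize [f]
  haveI : _root_.IsReduced (A ⧸ I) := (Ideal.isRadical_iff_quotient_reduced _).1 hI
  haveI : _root_.IsReduced ((A ⧸ I) ⊗[A] B) := by
    have hs : Smooth (Spec.map (CommRingCat.ofHom (algebraMap (A ⧸ I) ((A ⧸ I) ⊗[A] B)))) := by
      rw [HasRingHomProperty.Spec_iff (P := @Smooth)]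
      exact RingHom.smooth_algebraMap.mpr inferInstance
    haveI : IsReduced (Spec (CommRingCat.of (A ⧸ I))) := (affine_isReduced_iff _).2 inferInstance
    have := AlgSpLib.isReduced_of_smooth (Spec.map (CommRingCat.ofHom (algebraMap (A ⧸ I) ((A ⧸ I) ⊗[A] B))))
    exact (affine_isReduced_iff _).1 this
  refine (Ideal.isRadical_iff_quotient_reduced _).2 ?_
  have e : I.map f = I.map (algebraMap A B) := rfl
  rw [e]
  exact isReduced_of_injective (Algebra.TensorProduct.quotIdealMapEquivQuotTensor B I)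
    (EquivLike.injective _)

/-- `t` is a reduced equation of `D` on `U`. -/
structure IsEq {P : Scheme.{u}} (D : Set P) (U : P.Opens) (t : Γ(P, U)) : Prop where
  locus : ∀ z ∈ U, z ∈ P.basicOpen t ↔ z ∉ D
  rad : (Ideal.span {t}).IsRadical

variable {P Q : Scheme.{u}}

theorem IsEq.pull {D : Set Q} {U : Q.Opens} (hU : IsAffineOpen U) {t : Γ(Q, U)} (h : IsEq D U t)
    (f : P ⟶ Q) [Smooth f] {V : P.Opens} (hV : IsAffineOpen V) (hle : V ≤ f ⁻¹ᵁ U) :
    IsEq (f ⁻¹' D) V (f.appLE U V hle t) := by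
  refine ⟨fun z hz => ?_, ?_⟩
  · rw [Scheme.basicOpen_appLE]
    show z ∈ V ∧ f z ∈ Q.basicOpen t ↔ _
    rw [h.locus (f z) (hle hz)]
    exact ⟨fun hh => hh.2, fun hh => ⟨hz, hh⟩⟩
  · have := isRadical_map_of_smooth (f.smooth_appLE hU hV hle) h.rad
    rwa [Ideal.map_span, Set.image_singleton] at this

theorem IsEq.res {D : Set P} {U : P.Opens} (hU : IsAffineOpen U) {t : Γ(P, U)} (h : IsEq D U t)
    {V : P.Opens} (hV : IsAffineOpen V) (hle : V ≤ U) : IsEq D V (rs hle t) := by
  haveI : Smooth (𝟙 P) := inferInstance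
  have hle' : V ≤ (𝟙 P) ⁻¹ᵁ U := hle
  have := h.pull hU (𝟙 P) hV hle'
  rwa [show (𝟙 P : P ⟶ P).appLE U V hle' t = rs hle t by simp [Scheme.Hom.appLE, rs]] at this

theorem IsEq.span_eq {D : Set P} {U : P.Opens} (hU : IsAffineOpen U) {t t' : Γ(P, U)}
    (h : IsEq D U t) (h' : IsEq D U t') : Ideal.span {t} = Ideal.span {t'} := by
  rw [← h.rad.radical, ← h'.rad.radical, ← PrimeSpectrum.vanishingIdeal_zeroLocus_eq_radical,
    ← PrimeSpectrum.vanishingIdeal_zeroLocus_eq_radical, PrimeSpectrum.zeroLocus_span,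
    PrimeSpectrum.zeroLocus_span]
  congr 1
  ext p
  have key : ∀ s : Γ(P, U), s ∈ p.asIdeal ↔ hU.fromSpec p ∉ P.basicOpen s := fun s => by
    have h2 : hU.fromSpec p ∈ P.basicOpen s ↔ s ∉ p.asIdeal := by
      show p ∈ hU.fromSpec ⁻¹ᵁ P.basicOpen s ↔ _
      rw [hU.fromSpec_preimage_basicOpen]
      rfl
    rw [h2, not_not]
  have hp : hU.fromSpec p ∈ U := hU.range_fromSpec.le ⟨p, rfl⟩
  simp only [PrimeSpectrum.mem_zeroLocus, Set.singleton_subset_iff, SetLike.mem_coe, key, h.locus _ hp, h'.locus _ hp]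

/-- Two reduced equations differ by a unit. -/
theorem IsEq.exists_unit {D : Set P} {U : P.Opens} (hU : IsAffineOpen U) {t t' : Γ(P, U)}
    (h : IsEq D U t) (h' : IsEq D U t') {W : P.Opens} (hP : Dn P W)
    (hu : IsUnit (rs (inf_le_left : U ⊓ W ≤ U) t)) : ∃ u : Γ(P, U), IsUnit u ∧ t' = u * t := by
  have he := h.span_eq hU h'
  obtain ⟨a, ha⟩ := Ideal.mem_span_singleton'.1 (he.ge (Ideal.mem_span_singleton_self t'))
  obtain ⟨b, hb⟩ := Ideal.mem_span_singleton'.1 (he.le (Ideal.mem_span_singleton_self t))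
  refine ⟨a, IsUnit.of_mul_eq_one b (hP U _ _ ?_), ha.symm⟩
  refine hu.mul_right_cancel ?_
  rw [← map_mul, ← map_mul, one_mul]
  refine congrArg _ ?_
  rw [mul_comm a b, mul_assoc, ha, hb]

end GLinExtLib
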