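import Groth.Agent.GLinExtLib.Lift
import Groth.Agent.GLinExtLib.RadEq
import Groth.Agent.GLinExtLib.Chart
import Groth.Agent.GrpShear
import Mathlib.AlgebraicGeometry.Geometrically.Irreducible

/-!
# Invariant divisors
-/

set_option autoImplicit false
set_option backward.isDefEq.respectTransparency false
set_option synthInstance.maxHeartbeats 400000
set_option maxHeartbeats 1000000
set_option linter.style.haveILetI false
set_option linter.unusedSectionVars false

universe u

open CategoryTheory CategoryTheory.Limits MonoidalCategory CartesianMonoidalCategory AlgebraicGeometry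
  TopologicalSpace Opposite Topology
open scoped MonObj

noncomputable section

namespace GLinExtLib

theorem isUnit_of_forall_mem {P : Scheme.{u}} {U : P.Opens} {t : Γ(P, U)}
    (h : ∀ z ∈ U, z ∈ P.basicOpen t) : IsUnit t :=
  P.toRingedSpace.isUnit_of_isUnit_germ U t fun x hx => (P.mem_basicOpen t x hx).1 (h x hx)

theorem IsEq.isUnit_rs {P : Scheme.{u}} {D : Set P} {U : P.Opens} {t : Γ(P, U)} (h : IsEq D U t)
    {O : P.Opens} (hle : O ≤ U) (hD : ∀ z ∈ O, z ∉ D) : IsUnit (rs hle t) :=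
  isUnit_of_forall_mem fun z hz => by
    rw [rs, Scheme.basicOpen_res]
    exact ⟨hz, (h.locus z (hle hz)).2 (hD z hz)⟩

/-- Divisibility by an element which is a unit on a schematically dense open is local. -/
theorem exists_mul_of_local {P : Scheme.{u}} {W : P.Opens} (hP : Dn P W) {O : P.Opens} (a b : Γ(P, O))
    (hu : IsUnit (rs (inf_le_left : O ⊓ W ≤ O) b))
    (h : ∀ z ∈ O, ∃ (O' : P.Opens) (hle : O' ≤ O), z ∈ O' ∧ ∃ c, rs hle a = rs hle b * c) :
    ∃ c : Γ(P, O), a = b * c := by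
  have hu' : ∀ (V : P.Opens) (hV : V ≤ O), IsUnit (rs (inf_le_left : V ⊓ W ≤ V) (rs hV b)) := fun V hV => by
    have := hu.map (P.presheaf.map (homOfLE (inf_le_inf_right W hV : V ⊓ W ≤ O ⊓ W)).op).hom
    rw [rs_rs]
    rw [← rs_rs (inf_le_left : O ⊓ W ≤ O) (inf_le_inf_right W hV)]
    exact this
  have cancel : ∀ (V : P.Opens) (hV : V ≤ O) (x y : Γ(P, V)), rs hV b * x = rs hV b * y → x = y := by
    intro V hV x y e
    refine hP V x y ((hu' V hV).mul_left_cancel ?_)
    simp only [rs, ← map_mul]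
    exact congrArg _ e
  choose O' hle hz c hc using fun z : O => h z z.2
  have hcompat : TopCat.Presheaf.IsCompatible P.presheaf O' c := by
    intro i j
    refine cancel (O' i ⊓ O' j) (inf_le_left.trans (hle i)) _ _ ?_
    have ei := congrArg (rs (inf_le_left : O' i ⊓ O' j ≤ O' i)) (hc i)
    have ej := congrArg (rs (inf_le_right : O' i ⊓ O' j ≤ O' j)) (hc j)
    simp only [rs, map_mul] at ei ej
    simp only [rs, ← ConcreteCategory.comp_apply, ← Functor.map_comp] at ei ej ⊢
    exact ei.symm.trans ej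
  obtain ⟨r₀, hr, -⟩ := P.sheaf.existsUnique_gluing' O' O (fun i => homOfLE (hle i))
    (fun y hy => Opens.mem_iSup.2 ⟨⟨y, hy⟩, hz ⟨y, hy⟩⟩) c hcompat
  let r : Γ(P, O) := r₀
  replace hr : ∀ i, rs (hle i) r = c i := hr
  refine ⟨r, TopCat.Presheaf.section_ext P.sheaf _ _ _ fun y hy => ?_⟩
  refine TopCat.Presheaf.germ_ext _ (O' ⟨y, hy⟩) (hz _) (homOfLE (hle _)) (homOfLE (hle _)) ?_
  show rs (hle ⟨y, hy⟩) a = rs (hle ⟨y, hy⟩) (b * r)
  rw [hc, ← hr]
  simp only [rs, map_mul]

variable {S : Scheme.{u}} {G X : Over S} [GrpObj G] (a : AlgGrp.Action G X)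

/-- The projection as `shear ≫ p₂`. -/
theorem act_eq_shear : a.act.left = (GrpShear.shear a (𝟙 G)).hom.left ≫ (snd G X).left := by
  rw [← Over.comp_left, GrpShear.shear_hom_snd, id_whiskerRight, Category.id_comp]

theorem isIrreducible_preimage_snd [Smooth G.hom] [GeometricallyIrreducible G.hom] {Z : Set X.left}
    (hZ : IsIrreducible Z) : IsIrreducible ((snd G X).left ⁻¹' Z) := by
  haveI : GeometricallyIrreducible (snd G X).left := by
    rw [Over.snd_left]; infer_instance
  haveI : Smooth (snd G X).left := smooth_snd X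
  exact (snd G X).left.isIrreducible_preimage (snd G X).left.isOpenMap hZ

theorem isIrreducible_preimage_act [Smooth G.hom] [GeometricallyIrreducible G.hom] {Z : Set X.left}
    (hZ : IsIrreducible Z) : IsIrreducible (a.act.left ⁻¹' Z) := by
  let e := Scheme.homeoOfIso ((Over.forget S).mapIso (GrpShear.shear a (𝟙 G)))
  have h : a.act.left ⁻¹' Z = e ⁻¹' ((snd G X).left ⁻¹' Z) := by
    rw [act_eq_shear]; rfl
  rw [h, ← e.image_symm]
  exact (isIrreducible_preimage_snd hZ).image _ e.symm.continuous.continuousOn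

/-- The unit section of `p₂`. -/
def unitX : X ⟶ G ⊗ X := lift (1 : X ⟶ G) (𝟙 X)

theorem unitX_act : (unitX ≫ a.act : X ⟶ X) = 𝟙 X := GrpShear.lift_one_act a (𝟙 X)

theorem unitX_snd : (unitX ≫ snd G X : X ⟶ X) = 𝟙 X := lift_snd _ _

theorem act_unitX_apply (x : X.left) : a.act.left ((unitX (G := G) (X := X)).left x) = x := by
  rw [← Scheme.Hom.comp_apply, ← Over.comp_left, unitX_act]; rfl

theorem snd_unitX_apply (x : X.left) : (snd G X).left ((unitX (G := G) (X := X)).left x) = x := by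
  rw [← Scheme.Hom.comp_apply, ← Over.comp_left, unitX_snd]; rfl

/-- The components of the complement of an invariant open are invariant. -/
theorem preimage_closure_eq [Smooth G.hom] [GeometricallyIrreducible G.hom] {W : X.left.Opens}
    (hinv : a.act.left ⁻¹ᵁ W = (snd G X).left ⁻¹ᵁ W) {J : Finset X.left} (hJ : ∀ q ∈ J, IsMaxCompl W q)
    (hcov : ∀ z, z ∉ W → ∃ q ∈ J, q ⤳ z) {q : X.left} (hq : q ∈ J) :
    a.act.left ⁻¹' closure {q} = (snd G X).left ⁻¹' closure {q} := by
  have hC : ∀ p, a.act.left p ∈ W ↔ (snd G X).left p ∈ W := fun p => SetLike.ext_iff.1 hinv p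
  have key : ∀ (f g : (G ⊗ X).left ⟶ X.left), (∀ p, f p ∈ W ↔ g p ∈ W) → (∀ x, f ((unitX).left x) = x) →
      (∀ x, g ((unitX).left x) = x) → (∀ Z : Set X.left, IsIrreducible Z → IsIrreducible (f ⁻¹' Z)) →
      f ⁻¹' closure {q} ⊆ g ⁻¹' closure {q} := by
    intro f g hfg hf1 hg1 hirr
    have hsub : f ⁻¹' closure {q} ⊆ ⋃₀ ((fun q' => g ⁻¹' closure {q'}) '' (J : Set X.left)) := by
      intro p hp
      have h1 : f p ∉ W := fun h => (hJ q hq).1 ((specializes_iff_mem_closure.2 hp).mem_open W.isOpen h)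
      obtain ⟨q', hq', hs⟩ := hcov (g p) (fun h => h1 ((hfg p).2 h))
      exact ⟨_, ⟨q', hq', rfl⟩, specializes_iff_mem_closure.1 hs⟩
    classical
    obtain ⟨_, hmem, hle⟩ := isIrreducible_iff_sUnion_isClosed.1 (hirr _ isIrreducible_singleton.closure)
      (J.image fun q' => g ⁻¹' closure {q'}) (by
        intro Z hZ
        obtain ⟨q', -, rfl⟩ := Finset.mem_image.1 hZ
        exact isClosed_closure.preimage g.continuous) (by rwa [Finset.coe_image])
    obtain ⟨q', hq', rfl⟩ := Finset.mem_image.1 hmem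
    have h2 : (unitX (G := G) (X := X)).left q ∈ f ⁻¹' closure {q} := by
      rw [Set.mem_preimage, hf1]; exact subset_closure rfl
    have h3 : q ∈ closure {q'} := by have := hle h2; rwa [Set.mem_preimage, hg1] at this
    have : q' = q := (hJ q hq).2 q' (hJ q' hq').1 (specializes_iff_mem_closure.2 h3)
    subst this
    exact hle
  exact Set.Subset.antisymm
    (key _ _ hC (act_unitX_apply a) snd_unitX_apply fun Z => isIrreducible_preimage_act a)
    (key _ _ (fun p => (hC p).symm) snd_unitX_apply (act_unitX_apply a) fun Z => isIrreducible_preimage_snd)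

/-- Products of reduced equations of invariant components are compatible with the action. -/
theorem compat_of_isEq [Smooth G.hom] [GeometricallyIrreducible G.hom] [IsReduced X.left]
    {W : X.left.Opens} (hW : Dense (W : Set X.left)) (hinv : a.act.left ⁻¹ᵁ W = (snd G X).left ⁻¹ᵁ W)
    {J : Finset X.left} (hJ : ∀ q ∈ J, IsMaxCompl W q) (hcov : ∀ z, z ∉ W → ∃ q ∈ J, q ⤳ z)
    (D : LinData W) (t : ∀ α, X.left → Γ(X.left, D.U α))
    (ht : ∀ α, ∀ q ∈ J, IsEq (closure {q}) (D.U α) (t α q)) (m : X.left → ℕ)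
    (hh : ∀ α, D.h α = ∏ q ∈ J, t α q ^ m q) : D.Compat a := by
  haveI : Smooth (snd G X).left := smooth_snd X
  haveI : Smooth a.act.left := GrpShear.act_prop a (@Smooth) inferInstance
  have hP := dn_of_smooth (W := W) (snd G X).left hW
  intro α β
  let O := a.act.left ⁻¹ᵁ D.U β ⊓ (snd G X).left ⁻¹ᵁ D.U α
  refine exists_mul_of_local hP _ _ ?_ fun z hz => ?_
  · have := (D.unit β).map (a.act.left.appLE (D.U β ⊓ W) (O ⊓ (snd G X).left ⁻¹ᵁ W)
      (le_inf (inf_le_left.trans inf_le_left) (inf_le_right.trans hinv.ge))).hom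
    rw [rs_appLE]
    rw [show (a.act.left.appLE (D.U β ⊓ W) _ _).hom (rs inf_le_left (D.h β)) =
      a.act.left.appLE (D.U β ⊓ W) (O ⊓ (snd G X).left ⁻¹ᵁ W) _ (rs inf_le_left (D.h β)) from rfl, appLE_rs] at this
    exact this
  obtain ⟨O', hO', hzO', hle⟩ := exists_isAffineOpen_mem_and_subset (x := z) (U := O) hz
  have hle₁ : O' ≤ a.act.left ⁻¹ᵁ D.U β := fun w hw => (hle hw).1
  have hle₂ : O' ≤ (snd G X).left ⁻¹ᵁ D.U α := fun w hw => (hle hw).2
  have key : ∀ q ∈ J, ∃ u, (snd G X).left.appLE _ O' hle₂ (t α q) =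
      a.act.left.appLE _ O' hle₁ (t β q) * u := by
    intro q hq
    have e1 := (ht β q hq).pull (D.aff β) a.act.left hO' hle₁
    have e2 := (ht α q hq).pull (D.aff α) (snd G X).left hO' hle₂
    rw [preimage_closure_eq a hinv hJ hcov hq] at e1
    obtain ⟨u, -, hu⟩ := e1.exists_unit hO' e2 hP (e1.isUnit_rs inf_le_left fun w hw hwq =>
      (hJ q hq).1 ((specializes_iff_mem_closure.2 hwq).mem_open W.isOpen hw.2))
    exact ⟨u, hu.trans (mul_comm _ _)⟩
  choose! u hu using key
  refine ⟨O', hle, hzO', ∏ q ∈ J, u q ^ m q, ?_⟩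
  rw [rs_appLE, rs_appLE, hh, hh]
  simp only [map_prod, map_pow]
  rw [← Finset.prod_mul_distrib]
  exact Finset.prod_congr rfl fun q hq => by rw [hu q hq, mul_pow]

end GLinExtLib
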