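import Groth.Agent.GLinExtLib.Cover
import Groth.Agent.GLinExtLib.Module
import Groth.Agent.GLinExtLib.Sigma
import Groth.Agent.GLinShLib.Basic

/-!
# A linearised bundle whose stable locus contains the cover
-/

set_option autoImplicit false
set_option backward.isDefEq.respectTransparency false
set_option synthInstance.maxHeartbeats 400000
set_option maxHeartbeats 1000000
set_option linter.style.haveILetI false
set_option linter.unusedSectionVars false

universe u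

open CategoryTheory CategoryTheory.Limits MonoidalCategory CartesianMonoidalCategory AlgebraicGeometry
  TopologicalSpace Opposite Topology
open scoped MonObj

noncomputable section

namespace GLinExtLib

variable {S : Scheme.{u}} {G X : Over S} [GrpObj G] {W : X.left.Opens}

/-- The sections of the bundle with coefficients `r · h` are `r · s`. -/
theorem LinData.rs_eq (D : LinData W) (F : Γ(D.V.left, ⊤)) (r : Γ(X.left, W)) (c : ∀ α, Γ(X.left, D.U α))
    (hc : ∀ α, rs (inf_le_left : D.U α ⊓ W ≤ D.U α) (c α) =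
      rs (inf_le_right : D.U α ⊓ W ≤ W) r * rs (inf_le_left : D.U α ⊓ W ≤ D.U α) (D.h α))
    (hF : ∀ α, GLinSh.resTop D.π (D.U α) F = D.π.left.app (D.U α) (c α) * D.y α) :
    rs (le_top : D.π.left ⁻¹ᵁ W ≤ ⊤) F =
      D.π.left.appLE W (D.π.left ⁻¹ᵁ W) le_rfl r * rs (le_top : D.π.left ⁻¹ᵁ W ≤ ⊤) D.s := by
  refine TopCat.Presheaf.section_ext D.V.left.sheaf _ _ _ fun v hv => ?_
  obtain ⟨α, hα⟩ := D.cov (D.π.left v)
  let O := D.π.left ⁻¹ᵁ (D.U α ⊓ W)
  have hleW : O ≤ D.π.left ⁻¹ᵁ W := D.π.left.preimage_mono inf_le_right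
  refine TopCat.Presheaf.germ_ext _ O ⟨hα, hv⟩ (homOfLE hleW) (homOfLE hleW) ?_
  show rs hleW (rs le_top F) = rs hleW (_ * _)
  have hleU : O ≤ D.π.left ⁻¹ᵁ D.U α := D.π.left.preimage_mono inf_le_left
  have eF := congrArg (rs hleU) (hF α)
  have es := congrArg (rs hleU) (D.hs α)
  have ec := congrArg (D.π.left.appLE (D.U α ⊓ W) O le_rfl) (hc α)
  simp only [rs, map_mul, GLinSh.resTop, Scheme.Hom.app_eq_appLE] at eF es ec ⊢
  simp only [← ConcreteCategory.comp_apply, ← Functor.map_comp, Scheme.Hom.appLE_map, Scheme.Hom.map_appLE,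
    homOfLE_comp, ← op_comp] at eF es ec ⊢
  rw [eF, es, ec, mul_assoc]

/-- A section `r · s` with invariant `r` is invariant. -/
theorem isInvFn_of_rs_eq {a : AlgGrp.Action G X} (D : LinData W) [Smooth G.hom] [IsReduced X.left]
    (hW : Dense (W : Set X.left)) (hinv : a.act.left ⁻¹ᵁ W = (snd G X).left ⁻¹ᵁ W)
    (Φ : AlgGrp.Action G D.V) (hπ : Φ.act ≫ D.π = (G ◁ D.π) ≫ a.act) (hs : GLinSh.IsInvFn Φ D.s)
    (F : Γ(D.V.left, ⊤)) (r : Γ(X.left, W))
    (hr : a.act.left.appLE W ((snd G X).left ⁻¹ᵁ W) hinv.ge r =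
      (snd G X).left.appLE W ((snd G X).left ⁻¹ᵁ W) le_rfl r)
    (hF : rs (le_top : D.π.left ⁻¹ᵁ W ≤ ⊤) F =
      D.π.left.appLE W (D.π.left ⁻¹ᵁ W) le_rfl r * rs (le_top : D.π.left ⁻¹ᵁ W ≤ ⊤) D.s) :
    GLinSh.IsInvFn Φ F := by
  haveI := D.smooth_π
  haveI : Smooth (snd G D.V).left := smooth_snd D.V
  have hP : Dn (G ⊗ D.V).left (((snd G D.V).left ≫ D.π.left) ⁻¹ᵁ W) := dn_of_smooth _ hW
  refine hP ⊤ _ _ ?_
  let D' := (snd G D.V).left ⁻¹ᵁ (D.π.left ⁻¹ᵁ W)
  have eπ : Φ.act.left ≫ D.π.left = (G ◁ D.π).left ≫ a.act.left := by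
    rw [← Over.comp_left, hπ, Over.comp_left]
  have eπ2 : (snd G D.V).left ≫ D.π.left = (G ◁ D.π).left ≫ (snd G X).left := by
    rw [← Over.comp_left, ← Over.comp_left, whiskerLeft_snd]
  have h1 : D' ≤ (G ◁ D.π).left ⁻¹ᵁ ((snd G X).left ⁻¹ᵁ W) := by
    rw [← Scheme.Hom.comp_preimage, ← eπ2, Scheme.Hom.comp_preimage]
  have h0 : D' ≤ Φ.act.left ⁻¹ᵁ (D.π.left ⁻¹ᵁ W) := by
    rw [← Scheme.Hom.comp_preimage, eπ, Scheme.Hom.comp_preimage, hinv]
    exact h1
  have key : rs le_top (Φ.act.left.appTop F) = (rs le_top ((snd G D.V).left.appTop F) : Γ((G ⊗ D.V).left, D')) := by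
    have hs' := congrArg (rs (le_top : D' ≤ ⊤)) hs
    rw [rs_appTop, rs_appTop] at hs' ⊢
    rw [← appLE_rs Φ.act.left le_top h0, ← appLE_rs (snd G D.V).left le_top (le_rfl : D' ≤ _)] at hs' ⊢
    rw [hF, map_mul, map_mul, hs', appLE_appLE', appLE_appLE']
    congr 1
    rw [appLE_hom eπ _ (by rw [Scheme.Hom.comp_preimage, hinv]; exact h1),
      appLE_hom eπ2 _ (by rw [Scheme.Hom.comp_preimage]; exact h1)]
    rw [← appLE_appLE' (G ◁ D.π).left a.act.left hinv.ge h1, ← appLE_appLE' (G ◁ D.π).left (snd G X).left le_rfl h1, hr]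
  have hle : (⊤ : (G ⊗ D.V).left.Opens) ⊓ ((snd G D.V).left ≫ D.π.left) ⁻¹ᵁ W ≤ D' := inf_le_right
  have := congrArg (rs hle) key
  rwa [rs_rs, rs_rs] at this

end GLinExtLib

namespace GLinExtLib

variable {k : Type u} [Field k] {G X : Over (Spec (CommRingCat.of k))} [GrpObj G]

theorem isUnit_prod_of_isEq {J : Finset X.left} {W0 : X.left.Opens} (hJ : ∀ q ∈ J, IsMaxCompl W0 q) {U : X.left.Opens}
    {t : X.left → Γ(X.left, U)} (ht : ∀ q ∈ J, IsEq (closure {q}) U (t q)) (m : X.left → ℕ) :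
    IsUnit (rs (inf_le_left : U ⊓ W0 ≤ U) (∏ q ∈ J, t q ^ m q)) := by
  rw [rs, map_prod]
  refine IsUnit.prod_iff.2 fun q hq => ?_
  rw [map_pow]
  exact ((ht q hq).isUnit_rs inf_le_left fun z hz hzq =>
    (hJ q hq).1 ((specializes_iff_mem_closure.2 hzq).mem_open W0.isOpen hz.2)).pow _

theorem subset_sLocus_of_cover [Smooth G.hom] [GeometricallyIrreducible G.hom] [IsIntegral X.left]
    [IsLocallyNoetherian X.left] [NoetherianSpace X.left] [X.left.IsSeparated]
    (hufd : ∀ x : X.left, UniqueFactorizationMonoid (X.left.presheaf.stalk x))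
    (a : AlgGrp.Action G X) {W0 : X.left.Opens} (hW0 : IsAffineOpen W0) (P : RatCover W0) [Finite P.I]
    (hη : genericPoint X.left ∈ W0) (hinv0 : a.act.left ⁻¹ᵁ W0 = (snd G X).left ⁻¹ᵁ W0)
    (hR : ∀ i, a.act.left.appLE W0 ((snd G X).left ⁻¹ᵁ W0) hinv0.ge (P.R i) =
      (snd G X).left.appLE W0 ((snd G X).left ⁻¹ᵁ W0) le_rfl (P.R i))
    (hcl : ∀ i, GLinSh.ClosedOrbitsOn a (P.W i)) :
    ∃ B : GLinSh.LinBun G a, (P.supp : Set X.left) ⊆ B.sLocus := by
  classical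
  have hW : Dense (W0 : Set X.left) := W0.isOpen.dense ⟨_, hη⟩
  haveI := isAffineHom_ι hW0
  obtain ⟨hfin, hcov'⟩ := exists_maxCompl W0
  let J := hfin.toFinset
  have hJ : ∀ q ∈ J, IsMaxCompl W0 q := fun q hq => hfin.mem_toFinset.1 hq
  have hcov : ∀ z, z ∉ W0 → ∃ q ∈ J, q ⤳ z := fun z hz => by
    obtain ⟨q, hq, hqz⟩ := hcov' z hz
    exact ⟨q, hfin.mem_toFinset.2 hq, hqz⟩
  choose V hV hxV ht' using fun x : X.left =>
    exists_isEq_all hufd hW (J := {q | IsMaxCompl W0 q}) hfin (fun q hq => hq) x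
  choose! t ht using ht'
  have ht2 : ∀ x, ∀ q ∈ J, IsEq (closure {q}) (V x) (t x q) := fun x q hq => ht x q (hJ q hq)
  have hηV : ∀ x, genericPoint X.left ∈ V x := fun x => gen_mem (hxV x)
  obtain ⟨m, hm⟩ := exists_mult P hη J fun q hq => by
    have hq' := hxV q
    choose mi hmi using fun i => exists_good (hV q) hJ hcov (t q) (ht2 q) hη hq hq' (P.R i)
    haveI := Fintype.ofFinite P.I
    exact ⟨Finset.univ.sup mi, fun i => (hmi i).mono (Finset.le_sup (Finset.mem_univ i))⟩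
  let h : ∀ x, Γ(X.left, V x) := fun x => ∏ q ∈ J, t x q ^ m q
  have hdn : Dn X.left W0 := dn_of_dense hW
  let C : CartData W0 :=
    { I := X.left
      U := V
      aff := hV
      cov := fun x => ⟨x, hxV x⟩
      h := h
      unit := fun x => isUnit_prod_of_isEq hJ (ht2 x) m
      tr := fun x y => by
        have hxy := (hV x).inf (hV y)
        have key : ∀ q ∈ J, ∃ u : Γ(X.left, V x ⊓ V y), IsUnit u ∧
            rs (inf_le_right : V x ⊓ V y ≤ V y) (t y q) = u * rs (inf_le_left : V x ⊓ V y ≤ V x) (t x q) := by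
          intro q hq
          have e1 := (ht2 x q hq).res (hV x) hxy inf_le_left
          exact e1.exists_unit hxy ((ht2 y q hq).res (hV y) hxy inf_le_right) hdn
            (e1.isUnit_rs inf_le_left fun z hz hzq =>
              (hJ q hq).1 ((specializes_iff_mem_closure.2 hzq).mem_open W0.isOpen hz.2))
        choose! u hu hu' using key
        refine ⟨∏ q ∈ J, u q ^ m q, IsUnit.prod_iff.2 fun q hq => (hu q hq).pow _, ?_⟩
        simp only [h, rs, map_prod, map_pow]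
        rw [← Finset.prod_mul_distrib]
        exact Finset.prod_congr rfl fun q hq => by
          rw [← mul_pow]; exact congrArg (· ^ m q) (hu' q hq)
      dn := hdn }
  let D := C.lin
  have hcompat : D.Compat a := compat_of_isEq a hW hinv0 hJ hcov D t ht2 m fun _ => rfl
  obtain ⟨Φ, hπ, hlin, hs⟩ := exists_linBun (a := a) D hW hinv0 hcompat
  let B : GLinSh.LinBun G a := ⟨D.V, D.π, D.atlas, Φ, hπ, hlin⟩
  refine ⟨B, fun z hz => ?_⟩
  obtain ⟨i, hzi⟩ := Opens.mem_iSup.1 hz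
  choose c hc using fun j x => exists_coeff (hV x) hJ hcov (t x) (ht2 x) m hη (hηV x) (P.R j)
    fun q hq _ => (hm q hq).1 j
  have hc' : ∀ x, rs (inf_le_left : V x ⊓ W0 ≤ V x) (c i x) =
      rs (inf_le_right : V x ⊓ W0 ≤ W0) (P.R i) * rs (inf_le_left : V x ⊓ W0 ≤ V x) (h x) := fun x => by
    refine gK_inj (⟨hηV x, hη⟩ : genericPoint X.left ∈ V x ⊓ W0) ?_
    rw [map_mul, gK_rs _ _ (hηV x), gK_rs _ _ hη, gK_rs _ _ (hηV x)]
    exact hc i x
  obtain ⟨F, hF⟩ := exists_sect C (a := P.R i) (c i) hc'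
  have hFi : GLinSh.IsInvFn Φ F :=
    isInvFn_of_rs_eq D hW hinv0 Φ hπ hs F (P.R i) (hR i) (D.rs_eq F (P.R i) (c i) hc' hF)
  have hwt : GLinSh.HasWeight B.atlas.chart 1 F := by
    rintro _ _ ⟨x, rfl, rfl⟩
    refine ⟨c i x, ?_⟩
    rw [pow_one, show GLinSh.res D.π le_rfl (D.y x) = D.y x from rs_self _ _]
    exact hF x
  have hnv : GLinSh.nonvanishing B.π F = (P.W i : Set X.left) := by
    ext x
    let K : GLinShLib.Chart B := ⟨V x, hV x, V x, le_rfl, D.y x, ⟨x, rfl, (rs_self _ _).symm⟩⟩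
    have hK : GLinSh.resTop B.π K.W F = B.π.left.app K.W (c i x) * K.coord ^ 1 := by
      rw [pow_one, show K.coord = D.y x from rs_self _ _]
      exact hF x
    rw [GLinShLib.mem_nonvanishing_iff K hK (hxV x)]
    exact mem_basicOpen_coeff_iff P hη hJ hcov (hV x) (t x) (ht2 x) m (fun j => c j x) (hηV x) hW hm
      (fun j => hc j x) i (hxV x)
  exact ⟨1, F, le_rfl, ⟨hwt, hFi⟩, hnv.symm ▸ hzi, P.W i, hnv.symm, P.aff i, hcl i⟩

end GLinExtLib
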