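import Groth.Agent.GLinExtLib.Chart
import Mathlib

/-!
# Multiplicities and coefficients
-/

set_option autoImplicit false
set_option backward.isDefEq.respectTransparency false
set_option synthInstance.maxHeartbeats 400000
set_option maxHeartbeats 1000000
set_option linter.style.haveILetI false
set_option linter.unusedSectionVars false

universe u

open CategoryTheory CategoryTheory.Limits AlgebraicGeometry TopologicalSpace Opposite Topology

noncomputable section

namespace GLinExtLib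

variable {X : Scheme.{u}} [IsIntegral X]

/-- The point `η` lies in every nonempty open. -/
theorem gen_mem {U : X.Opens} {z : X} (hz : z ∈ U) : genericPoint X ∈ U :=
  (genericPoint_specializes z).mem_open U.isOpen hz

/-- A section as a rational function. -/
def gK {U : X.Opens} (h : genericPoint X ∈ U) : Γ(X, U) →+* X.functionField := (X.presheaf.germ U _ h).hom

theorem gK_inj {U : X.Opens} (h : genericPoint X ∈ U) : Function.Injective (gK h) :=
  germ_injective_of_isIntegral X _ h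

theorem gK_rs {U V : X.Opens} (hle : V ≤ U) (h : genericPoint X ∈ V) (h' : genericPoint X ∈ U) (s : Γ(X, U)) :
    gK h (rs hle s) = gK h' s :=
  TopCat.Presheaf.germ_res_apply X.presheaf _ _ _ _

/-- A stalk in the function field. -/
def ιK (q : X) : X.presheaf.stalk q →+* X.functionField :=
  (X.presheaf.stalkSpecializes (genericPoint_specializes q)).hom

theorem ιK_germ {U : X.Opens} {q : X} (hq : q ∈ U) (s : Γ(X, U)) :
    ιK q (X.presheaf.germ U q hq s) = gK (gen_mem hq) s := by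
  exact TopCat.Presheaf.germ_stalkSpecializes_apply X.presheaf hq _ s

theorem ιK_inj (q : X) : Function.Injective (ιK q) := by
  intro a b h
  obtain ⟨U, hqU, s, rfl⟩ := X.presheaf.germ_exist a
  obtain ⟨V, hqV, s', rfl⟩ := X.presheaf.germ_exist b
  rw [ιK_germ, ιK_germ] at h
  have hqUV : q ∈ U ⊓ V := ⟨hqU, hqV⟩
  rw [← gK_rs (inf_le_left : U ⊓ V ≤ U) (gen_mem hqUV) (gen_mem hqU),
    ← gK_rs (inf_le_right : U ⊓ V ≤ V) (gen_mem hqUV) (gen_mem hqV)] at h
  rw [← TopCat.Presheaf.germ_res_apply X.presheaf (homOfLE (inf_le_left : U ⊓ V ≤ U)) q hqUV s,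
    ← TopCat.Presheaf.germ_res_apply X.presheaf (homOfLE (inf_le_right : U ⊓ V ≤ V)) q hqUV s']
  exact congrArg _ (gK_inj _ h)

/-- `r · m^m` is regular at `q`. -/
def Good (q : X) (r : X.functionField) (m : ℕ) : Prop :=
  ∀ z ∈ (IsLocalRing.maximalIdeal (X.presheaf.stalk q)) ^ m, r * ιK q z ∈ Set.range (ιK q)

theorem Good.mono {q : X} {r : X.functionField} {m n : ℕ} (h : Good q r m) (hmn : m ≤ n) : Good q r n :=
  fun z hz => h z (Ideal.pow_le_pow_right hmn hz)

theorem Good.mul {q : X} {r : X.functionField} {m : ℕ} (h : Good q r m) (g : X.presheaf.stalk q) :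
    Good q (ιK q g * r) m := fun z hz => by
  obtain ⟨w, hw⟩ := h z hz
  exact ⟨g * w, by rw [map_mul, hw, mul_assoc]⟩

theorem span_eq_of_isEq {U : X.Opens} (hU : IsAffineOpen U) {q : X} {a : PrimeSpectrum Γ(X, U)}
    (ha : hU.fromSpec a = q) {t : Γ(X, U)} (h : IsEq (closure {q}) U t) : Ideal.span {t} = a.asIdeal := by
  rw [← h.rad.radical, ← a.2.radical, ← PrimeSpectrum.vanishingIdeal_zeroLocus_eq_radical,
    ← PrimeSpectrum.vanishingIdeal_zeroLocus_eq_radical, PrimeSpectrum.zeroLocus_span]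
  congr 1
  ext b
  have hb : hU.fromSpec b ∈ U := hU.range_fromSpec.le ⟨b, rfl⟩
  simp only [PrimeSpectrum.mem_zeroLocus, Set.singleton_subset_iff, SetLike.mem_coe, SetLike.coe_subset_coe]
  rw [← fromSpec_specializes_iff hU a b, ha, specializes_iff_mem_closure]
  have h1 := h.locus _ hb
  have h2 := mem_basicOpen_fromSpec hU b t
  tauto

theorem isUnit_of_notMem {U : X.Opens} {t : Γ(X, U)} {D : Set X} (h : IsEq D U t) (hD : ∀ z ∈ U, z ∉ D) :
    IsUnit t := by
  have hb : X.basicOpen t = U := le_antisymm (X.basicOpen_le t) fun z hz => (h.locus z hz).2 (hD z hz)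
  have h2 : IsUnit (rs (X.basicOpen_le t) t) := X.toRingedSpace.isUnit_res_basicOpen t
  have h3 := h2.map (X.presheaf.map (homOfLE hb.ge).op).hom
  change IsUnit (rs hb.ge (rs (X.basicOpen_le t) t)) at h3
  rwa [rs_rs, rs_self] at h3

theorem isUnit_germ_t {U : X.Opens} {q z : X} (hz : z ∈ U) {t : Γ(X, U)} (h : IsEq (closure {q}) U t)
    (hqz : ¬ q ⤳ z) : IsUnit (X.presheaf.germ U z hz t) :=
  (X.mem_basicOpen t z hz).1 ((h.locus z hz).2 fun h' => hqz (specializes_iff_mem_closure.2 h'))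

theorem maximalIdeal_eq_span {U : X.Opens} (hU : IsAffineOpen U) {q : X} (hq : q ∈ U) {t : Γ(X, U)}
    (h : IsEq (closure {q}) U t) :
    IsLocalRing.maximalIdeal (X.presheaf.stalk q) = Ideal.span {X.presheaf.germ U q hq t} := by
  let _ := TopCat.Presheaf.algebra_section_stalk X.presheaf (⟨q, hq⟩ : U)
  haveI := hU.isLocalization_stalk ⟨q, hq⟩
  have he := span_eq_of_isEq hU (hU.fromSpec_primeIdealOf ⟨q, hq⟩) h
  rw [← IsLocalization.AtPrime.map_eq_maximalIdeal (hU.primeIdealOf ⟨q, hq⟩).asIdeal (X.presheaf.stalk q), ← he,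
    Ideal.map_span, Set.image_singleton]
  rfl

theorem good_iff {U : X.Opens} (hU : IsAffineOpen U) {q : X} (hq : q ∈ U) {t : Γ(X, U)}
    (h : IsEq (closure {q}) U t) (r : X.functionField) (m : ℕ) :
    Good q r m ↔ r * gK (gen_mem hq) t ^ m ∈ Set.range (ιK q) := by
  have hmax := maximalIdeal_eq_span hU hq h
  constructor
  · intro hg
    have := hg (X.presheaf.germ U q hq t ^ m) (Ideal.pow_mem_pow (hmax.ge (Ideal.mem_span_singleton_self _)) m)
    rwa [map_pow, ιK_germ] at this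
  · rintro ⟨w, hw⟩ z hz
    rw [hmax, Ideal.span_singleton_pow, Ideal.mem_span_singleton'] at hz
    obtain ⟨c, rfl⟩ := hz
    exact ⟨c * w, by rw [map_mul, map_mul, map_pow, ιK_germ, hw]; ring⟩

variable {W0 : X.Opens}

section Chart

variable {U : X.Opens} (hU : IsAffineOpen U) {J : Finset X} (hJ : ∀ q ∈ J, IsMaxCompl W0 q)
  (hcov : ∀ z, z ∉ W0 → ∃ q ∈ J, q ⤳ z) (t : X → Γ(X, U)) (ht : ∀ q ∈ J, IsEq (closure {q}) U (t q))

theorem inf_eq_basicOpen (hcov : ∀ z, z ∉ W0 → ∃ q ∈ J, q ⤳ z) (hJ : ∀ q ∈ J, IsMaxCompl W0 q)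
    (ht : ∀ q ∈ J, IsEq (closure {q}) U (t q)) : U ⊓ W0 = X.basicOpen (∏ q ∈ J, t q) := by
  ext z
  constructor
  · rintro ⟨hzU, hzW⟩
    refine (X.mem_basicOpen _ z hzU).2 ?_
    rw [map_prod]
    refine IsUnit.prod_iff.2 fun q hq => isUnit_germ_t hzU (ht q hq) fun hqz => (hJ q hq).1 ?_
    exact hqz.mem_open W0.isOpen hzW
  · intro hz
    have hzU : z ∈ U := X.basicOpen_le _ hz
    refine ⟨hzU, ?_⟩
    by_contra hzW
    obtain ⟨q, hq, hqz⟩ := hcov z hzW
    have hu := (X.mem_basicOpen _ z hzU).1 hz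
    rw [map_prod, IsUnit.prod_iff] at hu
    exact ((ht q hq).locus z hzU).1 ((X.mem_basicOpen _ z hzU).2 (hu q hq)) (specializes_iff_mem_closure.1 hqz)

include hU hJ hcov ht in
theorem exists_frac (hη : genericPoint X ∈ W0) (hηU : genericPoint X ∈ U) (R : Γ(X, W0)) :
    ∃ (N : ℕ) (a : Γ(X, U)), gK hη R * gK hηU (∏ q ∈ J, t q) ^ N = gK hηU a := by
  have e := inf_eq_basicOpen t hcov hJ ht
  let i : U ⊓ W0 ⟶ U := homOfLE inf_le_left
  letI := (X.presheaf.map i.op).hom.toAlgebra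
  haveI := hU.isLocalization_of_eq_basicOpen (f := ∏ q ∈ J, t q) i e
  obtain ⟨N, a, ha⟩ := IsLocalization.Away.surj (∏ q ∈ J, t q) (rs (inf_le_right : U ⊓ W0 ≤ W0) R)
  refine ⟨N, a, ?_⟩
  have := congrArg (gK (⟨hηU, hη⟩ : genericPoint X ∈ U ⊓ W0)) ha
  rw [map_mul, map_pow, gK_rs] at this
  have e2 : ∀ s, gK (⟨hηU, hη⟩ : genericPoint X ∈ U ⊓ W0) (algebraMap Γ(X, U) Γ(X, U ⊓ W0) s) = gK hηU s :=
    fun s => gK_rs inf_le_left _ hηU s
  rwa [e2, e2] at this

theorem isUnit_germ_others (hJ : ∀ q ∈ J, IsMaxCompl W0 q) (ht : ∀ q ∈ J, IsEq (closure {q}) U (t q))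
    {q : X} (hqJ : q ∈ J) (hq : q ∈ U) (e : X → ℕ) [DecidableEq X] :
    IsUnit (X.presheaf.germ U q hq (∏ p ∈ J.erase q, t p ^ e p)) := by
  rw [map_prod]
  refine IsUnit.prod_iff.2 fun p hp => ?_
  obtain ⟨hne, hpJ⟩ := Finset.mem_erase.1 hp
  rw [map_pow]
  exact (isUnit_germ_t hq (ht p hpJ) fun h => hne ((hJ q hqJ).2 p (hJ p hpJ).1 h)).pow _

include hU hJ hcov ht in
theorem exists_good (hη : genericPoint X ∈ W0) {q : X} (hqJ : q ∈ J) (hq : q ∈ U) (R : Γ(X, W0)) :
    ∃ m, Good q (gK hη R) m := by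
  classical
  obtain ⟨N, a, ha⟩ := exists_frac hU hJ hcov t ht hη (gen_mem hq) R
  refine ⟨N, (good_iff hU hq (ht q hqJ) _ _).2 ?_⟩
  obtain ⟨v, hv⟩ := (isUnit_germ_others t hJ ht hqJ hq fun _ => N)
  refine ⟨X.presheaf.germ U q hq a * ↑v⁻¹, ?_⟩
  have hv' : ιK q (↑v⁻¹) * gK (gen_mem hq) (∏ p ∈ J.erase q, t p ^ N) = 1 := by
    rw [← ιK_germ hq, ← map_mul, ← hv, Units.inv_mul, map_one]
  rw [map_mul, ιK_germ, ← ha, ← Finset.mul_prod_erase J t hqJ, map_mul, mul_pow, ← map_pow (gK (gen_mem hq)) (∏ p ∈ J.erase q, t p),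
    ← Finset.prod_pow]
  rw [show ∀ x y z w : X.functionField, x * (y * z) * w = x * y * (w * z) from fun x y z w => by ring, hv', mul_one]

variable (m : X → ℕ)

include hU hJ hcov ht in
/-- A function with bounded poles has a coefficient. -/
theorem exists_coeff (hη : genericPoint X ∈ W0) (hηU : genericPoint X ∈ U) (R : Γ(X, W0))
    (hgood : ∀ q ∈ J, q ∈ U → Good q (gK hη R) (m q)) :
    ∃ c : Γ(X, U), gK hηU c = gK hη R * gK hηU (∏ q ∈ J, t q ^ m q) := by
  classical
  haveI : Nonempty U := ⟨⟨_, hηU⟩⟩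
  obtain ⟨N, a, ha⟩ := exists_frac hU hJ hcov t ht hη hηU R
  let h := ∏ q ∈ J, t q ^ m q
  suffices hdvd : (∏ q ∈ J, t q) ^ N ∣ a * h by
    obtain ⟨c, hc⟩ := hdvd
    refine ⟨c, ?_⟩
    have hT : gK hηU ((∏ q ∈ J, t q) ^ N) ≠ 0 := by
      intro h0
      rw [map_eq_zero_iff _ (gK_inj hηU), pow_eq_zero_iff'] at h0
      have hmem : genericPoint X ∈ U ⊓ W0 := ⟨hηU, hη⟩
      rw [inf_eq_basicOpen t hcov hJ ht, h0.1, Scheme.basicOpen_zero] at hmem
      exact hmem
    apply mul_left_cancel₀ hT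
    rw [← map_mul, ← hc, map_mul, ← ha, map_pow]
    ring
  have hone : ∀ q ∈ J, t q ^ N ∣ a * h := by
    intro q hqJ
    by_cases hq : q ∈ U
    swap
    · exact ((isUnit_of_notMem (ht q hqJ) fun z hz hzq =>
        hq ((specializes_iff_mem_closure.2 hzq).mem_open U.isOpen hz)).pow N).dvd
    obtain ⟨P, hP⟩ := exists_fromSpec hU hq
    have hspan := span_eq_of_isEq hU hP (ht q hqJ)
    obtain ⟨w, hw⟩ := (good_iff hU hq (ht q hqJ) _ _).1 (hgood q hqJ hq)
    let _ := TopCat.Presheaf.algebra_section_stalk X.presheaf (⟨q, hq⟩ : U)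
    haveI := hU.isLocalization_stalk ⟨q, hq⟩
    obtain ⟨b, s, rfl⟩ := IsLocalization.exists_mk'_eq (hU.primeIdealOf ⟨q, hq⟩).asIdeal.primeCompl w
    have hsP : (s : Γ(X, U)) ∉ P.asIdeal := by
      have hP2 : hU.primeIdealOf ⟨q, hq⟩ = P :=
        hU.fromSpec.isOpenEmbedding.injective ((hU.fromSpec_primeIdealOf ⟨q, hq⟩).trans hP.symm)
      rw [← hP2]; exact s.2
    have hb : gK hηU b = ιK q (IsLocalization.mk' (X.presheaf.stalk q) b s) * gK hηU s := by
      rw [← ιK_germ hq, ← ιK_germ hq, ← map_mul]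
      exact congrArg _ (IsLocalization.mk'_spec (X.presheaf.stalk q) b s).symm
    rw [hw] at hb
    have hkey : (s : Γ(X, U)) * t q ^ m q * a = b * (∏ q ∈ J, t q) ^ N := by
      apply gK_inj hηU
      rw [map_mul, map_mul, map_mul, map_pow, map_pow, ← ha, hb]
      ring
    have hd : t q ^ N ∣ (s : Γ(X, U)) * (a * h) := by
      have : (s : Γ(X, U)) * (a * h) = b * (∏ q ∈ J, t q) ^ N * ∏ p ∈ J.erase q, t p ^ m p := by
        rw [← hkey]
        show _ * (_ * ∏ q ∈ J, t q ^ m q) = _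
        rw [← Finset.mul_prod_erase J (fun q => t q ^ m q) hqJ]
        ring
      rw [this]
      exact ((pow_dvd_pow_of_dvd (Finset.dvd_prod_of_mem t hqJ) N).mul_left b).mul_right _
    have htne : t q ≠ 0 := by
      intro h0
      have : genericPoint X ∈ X.basicOpen (t q) := (((ht q hqJ).locus _ hηU).2 fun hh =>
        (hJ q hqJ).1 ((specializes_iff_mem_closure.2 hh).mem_open W0.isOpen hη))
      rw [h0, Scheme.basicOpen_zero] at this
      exact this
    have hprime : Prime (t q) := by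
      rw [← Ideal.span_singleton_prime htne, hspan]
      exact P.2
    refine hprime.pow_dvd_of_dvd_mul_left N (fun hds => hsP ?_) hd
    rw [← hspan]
    exact Ideal.mem_span_singleton.2 hds
  rw [← Finset.prod_pow]
  have hpp : ∀ q ∈ J, q ∈ U → Prime (t q) := by
    intro q hqJ hq
    obtain ⟨P, hP⟩ := exists_fromSpec hU hq
    have htne : t q ≠ 0 := by
      intro h0
      have : genericPoint X ∈ X.basicOpen (t q) := (((ht q hqJ).locus _ hηU).2 fun hh =>
        (hJ q hqJ).1 ((specializes_iff_mem_closure.2 hh).mem_open W0.isOpen hη))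
      rw [h0, Scheme.basicOpen_zero] at this
      exact this
    rw [← Ideal.span_singleton_prime htne, span_eq_of_isEq hU hP (ht q hqJ)]
    exact P.2
  have key : ∀ T : Finset X, T ⊆ J → ∏ q ∈ T, t q ^ N ∣ a * h := by
    intro T
    induction T using Finset.induction_on with
    | empty => intro _; simp
    | @insert q T hqT ih =>
      intro hsub
      have hqJ : q ∈ J := hsub (Finset.mem_insert_self q T)
      obtain ⟨y, hy⟩ := ih fun p hp => hsub (Finset.mem_insert_of_mem hp)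
      rw [Finset.prod_insert hqT]
      by_cases hq : q ∈ U
      · obtain ⟨P, hP⟩ := exists_fromSpec hU hq
        have hnd : ¬ t q ∣ ∏ p ∈ T, t p ^ N := fun hd => by
          obtain ⟨p, hp, hpd⟩ := (hpp q hqJ hq).exists_mem_finset_dvd hd
          have hpd' := (hpp q hqJ hq).dvd_of_dvd_pow hpd
          have hpJ : p ∈ J := hsub (Finset.mem_insert_of_mem hp)
          have hu := isUnit_germ_t hq (ht p hpJ) fun h' =>
            hqT (((hJ q hqJ).2 p (hJ p hpJ).1 h') ▸ hp)
          have hmem : t p ∈ P.asIdeal := by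
            rw [← span_eq_of_isEq hU hP (ht q hqJ)]
            exact Ideal.mem_span_singleton.2 hpd'
          have h2 := (X.mem_basicOpen _ q hq).2 hu
          rw [← hP] at h2
          exact (mem_basicOpen_fromSpec hU P _).1 h2 hmem
        have h1 : t q ^ N ∣ (∏ p ∈ T, t p ^ N) * y := hy ▸ hone q hqJ
        have h3 := (hpp q hqJ hq).pow_dvd_of_dvd_mul_left N hnd h1
        rw [hy, mul_comm (t q ^ N)]
        exact mul_dvd_mul_left _ h3
      · rw [hy]
        exact ((isUnit_of_notMem (ht q hqJ) fun z hz hzq =>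
          hq ((specializes_iff_mem_closure.2 hzq).mem_open U.isOpen hz)).pow N).mul_left_dvd.2 (dvd_mul_right _ _)
  exact key J subset_rfl

/-- The germ of a coefficient at a component. -/
theorem isUnit_coeff_iff (hJ : ∀ q ∈ J, IsMaxCompl W0 q) (ht : ∀ q ∈ J, IsEq (closure {q}) U (t q))
    (hη : genericPoint X ∈ W0) (R : Γ(X, W0)) {q : X} (hqJ : q ∈ J) (hq : q ∈ U)
    {c : Γ(X, U)} (hc : gK (gen_mem hq) c = gK hη R * gK (gen_mem hq) (∏ q ∈ J, t q ^ m q))
    {w : X.presheaf.stalk q} (hw : ιK q w = gK hη R * gK (gen_mem hq) (t q) ^ m q) :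
    IsUnit (X.presheaf.germ U q hq c) ↔ IsUnit w := by
  classical
  have hu := isUnit_germ_others t hJ ht hqJ hq m
  have e : X.presheaf.germ U q hq c = w * X.presheaf.germ U q hq (∏ p ∈ J.erase q, t p ^ m p) := by
    apply ιK_inj q
    rw [map_mul, hw, ιK_germ, ιK_germ, hc, ← Finset.mul_prod_erase J (fun q => t q ^ m q) hqJ, map_mul, map_pow]
    ring
  rw [e, IsUnit.mul_iff]
  exact ⟨fun h => h.1, fun h => ⟨h, hu⟩⟩

end Chart

end GLinExtLib
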