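import Groth.Prelude.Def_GLinSh
import Mathlib

/-!
# Functions on reduced schemes and maps into the total space through coordinates
-/

set_option autoImplicit false
set_option backward.isDefEq.respectTransparency false
set_option synthInstance.maxHeartbeats 400000
set_option maxHeartbeats 1000000
set_option linter.style.haveILetI false

universe u

open CategoryTheory CategoryTheory.Limits AlgebraicGeometry TopologicalSpace Opposite

noncomputable section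

namespace GLinExtLib

/-- Restriction of functions. -/
abbrev rs {P : Scheme.{u}} {U W : P.Opens} (h : W ≤ U) (s : Γ(P, U)) : Γ(P, W) :=
  P.presheaf.map (homOfLE h).op s

theorem rs_rs {P : Scheme.{u}} {U V W : P.Opens} (h : V ≤ U) (h' : W ≤ V) (s : Γ(P, U)) :
    rs h' (rs h s) = rs (h'.trans h) s := by
  rw [rs, rs, rs, ← ConcreteCategory.comp_apply, ← Functor.map_comp]
  rfl

theorem rs_self {P : Scheme.{u}} {U : P.Opens} (h : U ≤ U) (s : Γ(P, U)) : rs h s = s := by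
  rw [rs, show (homOfLE h).op = 𝟙 (op U) from rfl, CategoryTheory.Functor.map_id]
  rfl

theorem appLE_appLE' {P Q R : Scheme.{u}} (m : P ⟶ Q) (n : Q ⟶ R) {O : R.Opens} {O' : Q.Opens} {W : P.Opens}
    (h₁ : O' ≤ n ⁻¹ᵁ O) (h₂ : W ≤ m ⁻¹ᵁ O') (s : Γ(R, O)) :
    m.appLE O' W h₂ (n.appLE O O' h₁ s) = (m ≫ n).appLE O W (h₂.trans (m.preimage_mono h₁)) s := by
  rw [← ConcreteCategory.comp_apply, Scheme.Hom.appLE_comp_appLE]

theorem appLE_hom {P Q : Scheme.{u}} {m m' : P ⟶ Q} (e : m = m') {O : Q.Opens} {W : P.Opens}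
    (h : W ≤ m ⁻¹ᵁ O) (h' : W ≤ m' ⁻¹ᵁ O) (s : Γ(Q, O)) : m.appLE O W h s = m'.appLE O W h' s := by
  subst e; rfl

theorem appLE_rs {P Q : Scheme.{u}} (m : P ⟶ Q) {O O' : Q.Opens} {W : P.Opens} (hle : O' ≤ O)
    (h : W ≤ m ⁻¹ᵁ O') (s : Γ(Q, O)) : m.appLE O' W h (rs hle s) = m.appLE O W (h.trans (m.preimage_mono hle)) s := by
  rw [rs, ← ConcreteCategory.comp_apply, Scheme.Hom.map_appLE]

theorem rs_appLE {P Q : Scheme.{u}} (m : P ⟶ Q) {O : Q.Opens} {W W' : P.Opens} (hle : W' ≤ W)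
    (h : W ≤ m ⁻¹ᵁ O) (s : Γ(Q, O)) : rs hle (m.appLE O W h s) = m.appLE O W' (hle.trans h) s := by
  rw [rs, ← ConcreteCategory.comp_apply, Scheme.Hom.appLE_map]

/-- Functions are determined by their restriction to `D`. -/
def Dn (P : Scheme.{u}) (D : P.Opens) : Prop :=
  ∀ (O : P.Opens) (s t : Γ(P, O)), rs (inf_le_left : O ⊓ D ≤ O) s = rs inf_le_left t → s = t

theorem dn_of_dense {P : Scheme.{u}} [IsReduced P] {D : P.Opens} (hD : Dense (D : Set P)) : Dn P D := by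
  intro O s t h
  rw [← sub_eq_zero]
  apply basicOpen_eq_bot_iff (X := P) _ |>.1
  by_contra hne
  obtain ⟨x, hx⟩ : ((P.basicOpen (s - t) : P.Opens) : Set P).Nonempty := by
    rw [Set.nonempty_iff_ne_empty]
    exact fun e => hne (Opens.ext e)
  obtain ⟨y, hy, hyD⟩ := hD.inter_open_nonempty _ (P.basicOpen (s - t)).isOpen ⟨x, hx⟩
  have h0 : rs (inf_le_left : O ⊓ D ≤ O) (s - t) = 0 := by
    rw [rs, map_sub, sub_eq_zero]; exact h
  have : P.basicOpen (rs (inf_le_left : O ⊓ D ≤ O) (s - t)) = (O ⊓ D) ⊓ P.basicOpen (s - t) :=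
    Scheme.basicOpen_res P (s - t) _
  rw [h0, Scheme.basicOpen_zero] at this
  have hy' : y ∈ (O ⊓ D) ⊓ P.basicOpen (s - t) := ⟨⟨P.basicOpen_le _ hy, hyD⟩, hy⟩
  rw [← this] at hy'
  exact hy'

instance isIso_topι (P : Scheme.{u}) : IsIso (⊤ : P.Opens).ι := P.topIso.isIso_hom

theorem specMap_appLE_eq {P Q : Scheme.{u}} (f : P ⟶ Q) {V : Q.Opens} (hV : IsAffineOpen V)
    (h : ⊤ ≤ f ⁻¹ᵁ V) :
    (⊤ : P.Opens).toSpecΓ ≫ Spec.map (f.appLE V ⊤ h) ≫ hV.fromSpec = (⊤ : P.Opens).ι ≫ f := by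
  rw [Scheme.Opens.toSpecΓ_SpecMap_appLE_assoc, IsAffineOpen.toSpecΓ_fromSpec, Scheme.Hom.resLE_comp_ι]

theorem appLE_eq_of_eq {P Q : Scheme.{u}} {V : Q.Opens} (hV : IsAffineOpen V) {ψ ψ' : Γ(Q, V) ⟶ Γ(P, ⊤)}
    (h : (⊤ : P.Opens).toSpecΓ ≫ Spec.map ψ ≫ hV.fromSpec = (⊤ : P.Opens).toSpecΓ ≫ Spec.map ψ' ≫ hV.fromSpec) :
    ψ = ψ' := by
  rw [← Category.assoc, ← Category.assoc, cancel_mono] at h
  have h2 := congrArg Scheme.Hom.appTop h
  rw [Scheme.Hom.comp_appTop, Scheme.Hom.comp_appTop, Scheme.Opens.toSpecΓ_appTop,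
    Scheme.ΓSpecIso_naturality_assoc, Scheme.ΓSpecIso_naturality_assoc] at h2
  exact (cancel_mono (⊤ : P.Opens).topIso.inv).1 ((cancel_epi (Scheme.ΓSpecIso _).hom).1 h2)

/-- Maps into an affine open with the same functions are equal. -/
theorem hom_ext_affine {P Q : Scheme.{u}} (f f' : P ⟶ Q) {V : Q.Opens} (hV : IsAffineOpen V)
    (h : ⊤ ≤ f ⁻¹ᵁ V) (h' : ⊤ ≤ f' ⁻¹ᵁ V) (e : f.appLE V ⊤ h = f'.appLE V ⊤ h') : f = f' := by
  rw [← cancel_epi (⊤ : P.Opens).ι, ← specMap_appLE_eq f hV h, ← specMap_appLE_eq f' hV h', e]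

variable {S : Scheme.{u}} {X V : Over S} {π : V ⟶ X}

/-- Maps into a trivialised line bundle are given by a map to the base and a function. -/
theorem exists_hom_coord [IsAffineHom π.left] {U : X.left.Opens} (hU : IsAffineOpen U)
    {y : Γ(V.left, π.left ⁻¹ᵁ U)} (hy : GLinSh.IsFibreCoord π U y) {P : Scheme.{u}} (m : P ⟶ X.left)
    (hm : ⊤ ≤ m ⁻¹ᵁ U) (z : Γ(P, ⊤)) :
    ∃ (g : P ⟶ V.left) (hg : g ≫ π.left = m),
      g.appLE (π.left ⁻¹ᵁ U) ⊤ (by rw [← Scheme.Hom.comp_preimage, hg]; exact hm) y = z := by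
  have hb := hy U hU le_rfl
  have hres : GLinSh.res π (le_refl U) y = y := rs_self _ y
  rw [hres] at hb
  let e := RingEquiv.ofBijective _ hb
  let ψ : Γ(V.left, π.left ⁻¹ᵁ U) ⟶ Γ(P, ⊤) :=
    CommRingCat.ofHom ((Polynomial.eval₂RingHom (m.appLE U ⊤ hm).hom z).comp e.symm.toRingHom)
  have hψy : ψ y = z := by
    show Polynomial.eval₂RingHom _ z (e.symm y) = z
    rw [show e.symm y = Polynomial.X from e.symm_apply_eq.2 (by simp [e])]
    simp
  have hψπ : π.left.appLE U (π.left ⁻¹ᵁ U) le_rfl ≫ ψ = m.appLE U ⊤ hm := by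
    ext c
    show Polynomial.eval₂RingHom _ z (e.symm (π.left.appLE U _ le_rfl c)) = _
    rw [show e.symm (π.left.appLE U _ le_rfl c) = Polynomial.C c from e.symm_apply_eq.2 (by
      simp [e, Scheme.Hom.app_eq_appLE])]
    simp
  have hV : IsAffineOpen (π.left ⁻¹ᵁ U) := hU.preimage π.left
  let g : P ⟶ V.left := inv (⊤ : P.Opens).ι ≫ (⊤ : P.Opens).toSpecΓ ≫ Spec.map ψ ≫ hV.fromSpec
  have hg : g ≫ π.left = m := by
    simp only [g, Category.assoc]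
    rw [← IsAffineOpen.SpecMap_appLE_fromSpec π.left hU hV le_rfl, ← Spec.map_comp_assoc, hψπ,
      specMap_appLE_eq m hU hm, IsIso.inv_hom_id_assoc]
  refine ⟨g, hg, ?_⟩
  have hgr : ⊤ ≤ g ⁻¹ᵁ (π.left ⁻¹ᵁ U) := by rw [← Scheme.Hom.comp_preimage, hg]; exact hm
  show g.appLE _ ⊤ hgr y = z
  rw [← hψy]
  refine ConcreteCategory.congr_hom (appLE_eq_of_eq hV ?_) y
  rw [specMap_appLE_eq g hV hgr]
  simp [g]

/-- Maps into a trivialised line bundle are determined by the base and the coordinate. -/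
theorem hom_ext_coord [IsAffineHom π.left] {U : X.left.Opens} (hU : IsAffineOpen U)
    {y : Γ(V.left, π.left ⁻¹ᵁ U)} (hy : GLinSh.IsFibreCoord π U y) {P : Scheme.{u}} (g g' : P ⟶ V.left)
    (hm : g ≫ π.left = g' ≫ π.left) (h : ⊤ ≤ g ⁻¹ᵁ (π.left ⁻¹ᵁ U)) (h' : ⊤ ≤ g' ⁻¹ᵁ (π.left ⁻¹ᵁ U))
    (e : g.appLE _ ⊤ h y = g'.appLE _ ⊤ h' y) : g = g' := by
  refine hom_ext_affine g g' (hU.preimage π.left) h h' (CommRingCat.hom_ext ?_)
  have hb := hy U hU le_rfl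
  rw [show GLinSh.res π (le_refl U) y = y from rs_self _ y] at hb
  refine RingHom.ext fun v => ?_
  obtain ⟨p, rfl⟩ := hb.2 v
  refine RingHom.congr_fun (f := (g.appLE _ ⊤ h).hom.comp (Polynomial.eval₂RingHom (π.left.app U).hom y))
    (g := (g'.appLE _ ⊤ h').hom.comp (Polynomial.eval₂RingHom (π.left.app U).hom y)) (Polynomial.ringHom_ext
      (fun c => ?_) ?_) p
  · simp only [RingHom.comp_apply, Polynomial.coe_eval₂RingHom, Polynomial.eval₂_C]
    rw [Scheme.Hom.app_eq_appLE]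
    exact (appLE_appLE' _ _ _ _ c).trans ((appLE_hom hm _ _ c).trans (appLE_appLE' _ _ _ _ c).symm)
  · simp only [RingHom.comp_apply, Polynomial.coe_eval₂RingHom, Polynomial.eval₂_X]
    exact e

end GLinExtLib
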