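import Groth.Agent.GLinExtLib.Coeff

/-!
# Multiplicities making affine opens nonvanishing loci
-/

set_option autoImplicit false
set_option backward.isDefEq.respectTransparency false
set_option synthInstance.maxHeartbeats 400000
set_option maxHeartbeats 1000000
set_option linter.style.haveILetI false
set_option linter.unusedSectionVars false

universe u

open CategoryTheory CategoryTheory.Limits AlgebraicGeometry TopologicalSpace Opposite Topology

noncomputable section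

namespace GLinExtLib

variable {X : Scheme.{u}}

theorem isAffineHom_ι [X.IsSeparated] {U : X.Opens} (hU : IsAffineOpen U) : IsAffineHom U.ι :=
  ⟨fun V hV => by
    rw [← U.ι.isAffineOpen_iff_of_isOpenImmersion, Scheme.Hom.image_preimage_eq_opensRange_inf,
      Scheme.Opens.opensRange_ι]
    exact hU.inf hV⟩

/-- Affine opens with ratios of their equations. -/
structure RatCover (W0 : X.Opens) where
  I : Type u
  W : I → X.Opens
  aff : ∀ i, IsAffineOpen (W i)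
  i0 : I
  hi0 : W i0 = W0
  g : I → (l : I) → Γ(X, W l)
  hg : ∀ i l, X.basicOpen (g i l) = W i ⊓ W l
  R : I → Γ(X, W0)
  R0 : R i0 = 1
  rel : ∀ i l, rs (inf_le_left : W l ⊓ W0 ≤ W l) (g i l) * rs (inf_le_right : W l ⊓ W0 ≤ W0) (R l) =
    rs (inf_le_right : W l ⊓ W0 ≤ W0) (R i)

variable {W0 : X.Opens}

/-- The union of the cover. -/
def RatCover.supp (P : RatCover W0) : X.Opens := ⨆ i, P.W i

theorem RatCover.W0_le (P : RatCover W0) : W0 ≤ P.supp := le_of_eq_of_le P.hi0.symm (le_iSup P.W P.i0)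

variable [IsIntegral X] [IsLocallyNoetherian X] (P : RatCover W0) (hη : genericPoint X ∈ W0)

theorem good_one (q : X) (m : ℕ) : Good q (gK hη (P.R P.i0)) m := fun z _ =>
  ⟨z, by rw [P.R0, map_one, one_mul]⟩

theorem exists_mult [Finite P.I] (J : Finset X) (hJ : ∀ q ∈ J, ∃ m, ∀ i, Good q (gK hη (P.R i)) m) :
    ∃ m : X → ℕ, ∀ q ∈ J, (∀ i, Good q (gK hη (P.R i)) (m q)) ∧
      (q ∈ P.supp → m q = 0 ∨ ¬ ∀ i, Good q (gK hη (P.R i)) (m q - 1)) ∧
      (q ∉ P.supp → 1 ≤ m q ∧ ∀ i, Good q (gK hη (P.R i)) (m q - 1)) := by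
  classical
  refine ⟨fun q => if hq : q ∈ J then Nat.find (hJ q hq) + (if q ∈ P.supp then 0 else 1) else 0, fun q hq => ?_⟩
  simp only [hq, dif_pos]
  refine ⟨fun i => (Nat.find_spec (hJ q hq) i).mono (Nat.le_add_right _ _), fun hs => ?_, fun hs => ?_⟩
  · simp only [hs, if_true, add_zero]
    by_cases h0 : Nat.find (hJ q hq) = 0
    · exact Or.inl h0
    · exact Or.inr (Nat.find_min (hJ q hq) (by omega))
  · simp only [hs, if_false, add_tsub_cancel_right]
    exact ⟨Nat.le_add_left _ _, Nat.find_spec (hJ q hq)⟩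

theorem exists_height_le_one {U : X.Opens} (hU : IsAffineOpen U) (c : Γ(X, U)) {z : X}
    (hz : z ∈ U) (hzc : z ∉ X.basicOpen c) :
    ∃ b : PrimeSpectrum Γ(X, U), hU.fromSpec b ⤳ z ∧ hU.fromSpec b ∉ X.basicOpen c ∧ b.asIdeal.height ≤ 1 := by
  haveI : IsNoetherianRing Γ(X, U) := IsLocallyNoetherian.component_noetherian ⟨U, hU⟩
  obtain ⟨Q, hQ⟩ := exists_fromSpec hU hz
  rw [← hQ, mem_basicOpen_fromSpec, not_not] at hzc
  haveI := Q.2
  obtain ⟨p, hp, hle⟩ := Ideal.exists_minimalPrimes_le ((Ideal.span_singleton_le_iff_mem Q.asIdeal).2 hzc)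
  haveI : p.IsPrime := hp.1.1
  refine ⟨⟨p, inferInstance⟩, hQ ▸ (fromSpec_specializes_iff hU _ Q).2 hle, ?_, ?_⟩
  · rw [mem_basicOpen_fromSpec, not_not]
    exact hp.1.2 (Ideal.mem_span_singleton_self c)
  · exact Ideal.height_le_one_of_isPrincipal_of_mem_minimalPrimes _ _ hp

variable {J : Finset X} (hJ : ∀ q ∈ J, IsMaxCompl W0 q) (hcov : ∀ z, z ∉ W0 → ∃ q ∈ J, q ⤳ z)

include hJ hcov in
/-- Points of height at most one outside `W0` are components. -/
theorem mem_J_of_height_le_one [IsAffineHom W0.ι] (hW : Dense (W0 : Set X)) {U : X.Opens} (hU : IsAffineOpen U)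
    {b : PrimeSpectrum Γ(X, U)} (hb : hU.fromSpec b ∉ W0) (hh : b.asIdeal.height ≤ 1) :
    hU.fromSpec b ∈ J := by
  haveI : IsNoetherianRing Γ(X, U) := IsLocallyNoetherian.component_noetherian ⟨U, hU⟩
  obtain ⟨q, hq, hqb⟩ := hcov _ hb
  have hqU : q ∈ U := hqb.mem_open U.isOpen (hU.range_fromSpec.le ⟨b, rfl⟩)
  obtain ⟨a, rfl⟩ := exists_fromSpec hU hqU
  have hle := (fromSpec_specializes_iff hU a b).1 hqb
  have h1 := height_eq_one hW (hJ _ hq) hU a rfl
  rcases eq_or_lt_of_le hle with h | h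
  · exact (PrimeSpectrum.ext h : a = b) ▸ hq
  · haveI := a.2; haveI := b.2
    exact absurd (h1 ▸ hh) (not_le.2 (Ideal.height_strict_mono_of_isPrime h))

variable {V : X.Opens} (hV : IsAffineOpen V) (t : X → Γ(X, V)) (ht : ∀ q ∈ J, IsEq (closure {q}) V (t q))
  (m : X → ℕ) (c : P.I → Γ(X, V))

include hV ht in
theorem exists_w (hηV : genericPoint X ∈ V) {q : X} (hqJ : q ∈ J) (hq : q ∈ V) {i : P.I}
    (hgood : Good q (gK hη (P.R i)) (m q)) :
    ∃ w, ιK q w = gK hη (P.R i) * gK (gen_mem hq) (t q) ^ m q := (good_iff hV hq (ht q hqJ) _ _).1 hgood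

include hV hJ hcov ht in
/-- With minimal multiplicities the nonvanishing loci are the opens of the cover. -/
theorem mem_basicOpen_coeff_iff [X.IsSeparated] [NoetherianSpace X] [IsAffineHom W0.ι]
    (hηV : genericPoint X ∈ V) (hW : Dense (W0 : Set X))
    (hm : ∀ q ∈ J, (∀ i, Good q (gK hη (P.R i)) (m q)) ∧
      (q ∈ P.supp → m q = 0 ∨ ¬ ∀ i, Good q (gK hη (P.R i)) (m q - 1)) ∧
      (q ∉ P.supp → 1 ≤ m q ∧ ∀ i, Good q (gK hη (P.R i)) (m q - 1)))
    (hc : ∀ i, gK hηV (c i) = gK hη (P.R i) * gK hηV (∏ q ∈ J, t q ^ m q))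
    (i : P.I) {z : X} (hz : z ∈ V) : z ∈ X.basicOpen (c i) ↔ z ∈ P.W i := by
  classical
  have hmax : ∀ {q} (hqJ : q ∈ J) (hq : q ∈ V),
      IsLocalRing.maximalIdeal (X.presheaf.stalk q) = Ideal.span {X.presheaf.germ V q hq (t q)} :=
    fun hqJ hq => maximalIdeal_eq_span hV hq (ht _ hqJ)
  have hbound : ∀ {q} (hqJ : q ∈ J) (hq : q ∈ V), 1 ≤ m q → ∀ i, Good q (gK hη (P.R i)) (m q - 1) →
      ¬ IsUnit (X.presheaf.germ V q hq (c i)) := by
    intro q hqJ hq h1 i hgood hu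
    obtain ⟨w, hw⟩ := (good_iff hV hq (ht q hqJ) _ _).1 hgood
    have hw' : ιK q (w * X.presheaf.germ V q hq (t q)) = gK hη (P.R i) * gK (gen_mem hq) (t q) ^ m q := by
      rw [map_mul, hw, ιK_germ, mul_assoc, ← pow_succ, Nat.sub_add_cancel h1]
    have := (isUnit_coeff_iff t m hJ ht hη (P.R i) hqJ hq (hc i) hw').1 hu
    have hmem : w * X.presheaf.germ V q hq (t q) ∈ IsLocalRing.maximalIdeal (X.presheaf.stalk q) := by
      rw [hmax hqJ hq]; exact Ideal.mul_mem_left _ _ (Ideal.mem_span_singleton_self _)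
    exact hmem this
  have hsome : ∀ {q} (hqJ : q ∈ J) (hq : q ∈ V), q ∈ P.supp →
      ∃ i, IsUnit (X.presheaf.germ V q hq (c i)) := by
    intro q hqJ hq hs
    rcases (hm q hqJ).2.1 hs with h0 | hn
    · refine ⟨P.i0, (isUnit_coeff_iff t m hJ ht hη (P.R P.i0) hqJ hq (hc P.i0) (w := 1) ?_).2 isUnit_one⟩
      rw [map_one, P.R0, map_one, h0, pow_zero, one_mul]
    · rw [not_forall] at hn
      obtain ⟨j, hj⟩ := hn
      obtain ⟨w, hw⟩ := exists_w P hη hV t ht m hηV hqJ hq ((hm q hqJ).1 j)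
      refine ⟨j, (isUnit_coeff_iff t m hJ ht hη (P.R j) hqJ hq (hc j) hw).2 ?_⟩
      by_contra hnu
      have h1 : 1 ≤ m q := by
        by_contra h0
        apply hj
        rw [show m q - 1 = m q by omega]
        exact (hm q hqJ).1 j
      have hmem : w ∈ IsLocalRing.maximalIdeal (X.presheaf.stalk q) := hnu
      rw [hmax hqJ hq, Ideal.mem_span_singleton'] at hmem
      obtain ⟨w', rfl⟩ := hmem
      refine hj ((good_iff hV hq (ht q hqJ) _ _).2 ⟨w', ?_⟩)
      have hne : gK (gen_mem hq) (t q) ≠ 0 := by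
        intro h0
        rw [map_eq_zero_iff _ (gK_inj _)] at h0
        have hmem2 : genericPoint X ∈ X.basicOpen (t q) := ((ht q hqJ).locus _ hηV).2 fun hh =>
          (hJ q hqJ).1 ((specializes_iff_mem_closure.2 hh).mem_open W0.isOpen hη)
        rw [h0, Scheme.basicOpen_zero] at hmem2
        exact hmem2
      apply mul_right_cancel₀ hne
      rw [mul_assoc, ← pow_succ, Nat.sub_add_cancel h1, ← hw, map_mul, ιK_germ]
  have hrel : ∀ i l {x} (hxV : x ∈ V) (hxl : x ∈ P.W l),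
      X.presheaf.germ V x hxV (c i) = X.presheaf.germ (P.W l) x hxl (P.g i l) * X.presheaf.germ V x hxV (c l) := by
    intro i l x hxV hxl
    apply ιK_inj x
    rw [map_mul, ιK_germ, ιK_germ, ιK_germ]
    have e := congrArg (gK (⟨gen_mem hxl, hη⟩ : genericPoint X ∈ P.W l ⊓ W0)) (P.rel i l)
    rw [map_mul, gK_rs _ _ (gen_mem hxl), gK_rs _ _ hη, gK_rs _ _ hη] at e
    rw [hc i, hc l, ← e]
    ring
  have hh0 : ∀ {x} (hxV : x ∈ V), x ∈ W0 → IsUnit (X.presheaf.germ V x hxV (c P.i0)) := by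
    intro x hxV hx0
    have e : c P.i0 = ∏ q ∈ J, t q ^ m q := gK_inj hηV (by rw [hc, P.R0, map_one, one_mul])
    rw [e, map_prod]
    refine IsUnit.prod_iff.2 fun q hq => ?_
    rw [map_pow]
    exact (isUnit_germ_t hxV (ht q hq) fun h => (hJ q hq).1 (h.mem_open W0.isOpen hx0)).pow _
  have hcl : ∀ l {x} (hxV : x ∈ V), x ∈ P.W l → IsUnit (X.presheaf.germ V x hxV (c l)) := by
    intro l x hxV hxl
    by_contra hnu
    obtain ⟨b, hbx, hbc, hbh⟩ := exists_height_le_one hV (c l) hxV fun h => hnu ((X.mem_basicOpen _ x hxV).1 h)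
    have hyV : hV.fromSpec b ∈ V := hV.range_fromSpec.le ⟨b, rfl⟩
    have hyl : hV.fromSpec b ∈ P.W l := hbx.mem_open (P.W l).isOpen hxl
    refine hbc ((X.mem_basicOpen _ _ hyV).2 ?_)
    by_cases hy0 : hV.fromSpec b ∈ W0
    · have := hh0 hyV hy0
      rw [hrel P.i0 l hyV hyl] at this
      exact (IsUnit.mul_iff.1 this).2
    · have hqJ := mem_J_of_height_le_one hJ hcov hW hV hy0 hbh
      obtain ⟨j, hj⟩ := hsome hqJ hyV (le_iSup P.W l hyl)
      rw [hrel j l hyV hyl] at hj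
      exact (IsUnit.mul_iff.1 hj).2
  have hin : ∀ {x} (hxV : x ∈ V), x ∈ P.supp → (x ∈ X.basicOpen (c i) ↔ x ∈ P.W i) := by
    intro x hxV hx
    obtain ⟨l, hxl⟩ := Opens.mem_iSup.1 hx
    rw [X.mem_basicOpen _ x hxV, hrel i l hxV hxl, IsUnit.mul_iff, and_iff_left (hcl l hxV hxl),
      ← X.mem_basicOpen _ x hxl, P.hg]
    exact ⟨fun h => h.1, fun h => ⟨h, hxl⟩⟩
  refine ⟨fun hzc => ?_, fun hzi => (hin hz (le_iSup P.W i hzi)).2 hzi⟩
  by_contra hzi
  obtain ⟨-, hmaxc⟩ := exists_maxCompl (P.W i)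
  obtain ⟨y, hy, hyz⟩ := hmaxc z hzi
  have hyc : y ∈ X.basicOpen (c i) := hyz.mem_open (X.basicOpen (c i)).isOpen hzc
  have hyV : y ∈ V := X.basicOpen_le _ hyc
  by_cases hys : y ∈ P.supp
  · exact hy.1 ((hin hyV hys).1 hyc)
  haveI := isAffineHom_ι (P.aff i)
  obtain ⟨b, hb⟩ := exists_fromSpec hV hyV
  have hbh : b.asIdeal.height ≤ 1 := by
    have h1 := AffCodimLib.dim_le_one_of_affine (P.W i) y hy.1 hy.2
    have h2 := height_fromSpec hV b
    rw [hb] at h2
    rw [← h2] at h1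
    exact_mod_cast h1
  have hy0 : hV.fromSpec b ∉ W0 := fun h => hys (P.W0_le (hb ▸ h))
  have hyJ : y ∈ J := hb ▸ mem_J_of_height_le_one hJ hcov hW hV hy0 hbh
  obtain ⟨h1, hg1⟩ := (hm y hyJ).2.2 hys
  exact hbound hyJ hyV h1 i (hg1 i) ((X.mem_basicOpen _ y hyV).1 hyc)

end GLinExtLib
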