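import Groth.Agent.GLinExtLib.Coord
import Groth.Agent.AlgSpLib.ReducedSmooth
import Groth.Prelude.Def_GLinSh
import Groth.Agent.GITQuotLib.Univ

/-!
# Linearising a line bundle given by invariant local equations
-/

set_option autoImplicit false
set_option backward.isDefEq.respectTransparency false
set_option synthInstance.maxHeartbeats 400000
set_option maxHeartbeats 1000000
set_option linter.style.haveILetI false
set_option linter.unusedSectionVars false

universe u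

open CategoryTheory CategoryTheory.Limits MonoidalCategory CartesianMonoidalCategory AlgebraicGeometry
  TopologicalSpace Opposite
open scoped MonObj

noncomputable section

namespace GLinExtLib

variable {S : Scheme.{u}} {G X : Over S}

/-- A line bundle with a global linear function `s` whose coefficients `h` are units over `W`. -/
structure LinData (W : X.left.Opens) where
  I : Type u
  U : I → X.left.Opens
  aff : ∀ α, IsAffineOpen (U α)
  cov : ∀ x, ∃ α, x ∈ U α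
  V : Over S
  π : V ⟶ X
  affine : IsAffineHom π.left
  y : ∀ α, Γ(V.left, π.left ⁻¹ᵁ U α)
  coord : ∀ α, GLinSh.IsFibreCoord π (U α) (y α)
  linear : ∀ α β, ∃ c : Γ(X.left, U α ⊓ U β), IsUnit c ∧
    GLinSh.res π inf_le_right (y β) = π.left.app (U α ⊓ U β) c * GLinSh.res π inf_le_left (y α)
  h : ∀ α, Γ(X.left, U α)
  unit : ∀ α, IsUnit (rs (inf_le_left : U α ⊓ W ≤ U α) (h α))
  s : Γ(V.left, ⊤)
  hs : ∀ α, GLinSh.resTop π (U α) s = π.left.app (U α) (h α) * y α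

theorem rs_appTop {P Q : Scheme.{u}} (f : P ⟶ Q) (W : P.Opens) (s : Γ(Q, ⊤)) :
    rs le_top (f.appTop s) = f.appLE ⊤ W le_top s := by
  rw [Scheme.Hom.appTop, Scheme.Hom.app_eq_appLE]
  exact rs_appLE f le_top le_rfl s

theorem appTop_comp_apply {P Q R : Scheme.{u}} (f : P ⟶ Q) (g : Q ⟶ R) (s : Γ(R, ⊤)) :
    (f ≫ g).appTop s = f.appTop (g.appTop s) := by
  rw [Scheme.Hom.comp_appTop, ConcreteCategory.comp_apply]

theorem appTop_eq_appLE {P Q : Scheme.{u}} (f : P ⟶ Q) (s : Γ(Q, ⊤)) : f.appTop s = f.appLE ⊤ ⊤ le_top s := by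
  rw [← rs_appTop, rs_self]

variable {W : X.left.Opens} (D : LinData W)

attribute [local instance] LinData.affine

/-- The atlas. -/
def LinData.atlas : GLinSh.LinAtlas D.π where
  affine := D.affine
  chart U' := {y' | ∃ (α : D.I) (e : U' = D.U α), y' = GLinSh.res D.π e.le (D.y α)}
  cover x := by
    obtain ⟨α, hα⟩ := D.cov x
    exact ⟨D.U α, hα, _, α, rfl, rfl⟩
  coord := by
    rintro _ _ ⟨α, rfl, rfl⟩
    rw [show GLinSh.res D.π le_rfl (D.y α) = D.y α from rs_self _ _]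
    exact D.coord α
  linear := by
    rintro _ _ _ _ ⟨α, rfl, rfl⟩ ⟨β, rfl, rfl⟩
    rw [show GLinSh.res D.π le_rfl (D.y α) = D.y α from rs_self _ _,
      show GLinSh.res D.π le_rfl (D.y β) = D.y β from rs_self _ _]
    exact D.linear α β

theorem LinData.smooth_π : Smooth D.π.left := by
  rw [HasRingHomProperty.iff_exists_appLE (P := @Smooth) (RingHom.Smooth.stableUnderComposition.stableUnderCompositionWithLocalizationAway
    RingHom.Smooth.holdsForLocalizationAway).1]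
  intro v
  obtain ⟨α, hα⟩ := D.cov (D.π.left v)
  refine ⟨⟨D.U α, D.aff α⟩, ⟨_, (D.aff α).preimage D.π.left⟩, hα, le_rfl, ?_⟩
  rw [← Scheme.Hom.app_eq_appLE]
  have hb := D.coord α (D.U α) (D.aff α) le_rfl
  rw [show GLinSh.res D.π le_rfl (D.y α) = D.y α from rs_self _ _] at hb
  have hC : RingHom.Smooth (Polynomial.C (R := Γ(X.left, D.U α))) :=
    RingHom.smooth_algebraMap.2 (@Algebra.Smooth.mk _ _ _ _ _ inferInstance (Algebra.FinitePresentation.equiv (MvPolynomial.uniqueAlgEquiv Γ(X.left, D.U α) (Fin 1))))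
  have e : (D.π.left.app (D.U α)).hom =
      (RingEquiv.ofBijective _ hb).toRingHom.comp Polynomial.C := by
    ext c
    simp
  rw [e]
  exact RingHom.Smooth.respectsIso.1 _ _ hC

/-- Equal base and equal value of `s` force equality on a scheme where `W` is schematically dense. -/
theorem LinData.hom_ext {P : Scheme.{u}} (g g' : P ⟶ D.V.left) (hπ : g ≫ D.π.left = g' ≫ D.π.left)
    (hs : g.appTop D.s = g'.appTop D.s) (hP : Dn P ((g ≫ D.π.left) ⁻¹ᵁ W)) : g = g' := by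
  let m := g ≫ D.π.left
  refine Scheme.Cover.hom_ext (P.openCoverOfIsOpenCover (fun α => m ⁻¹ᵁ D.U α)
    (IsOpenCover.mk (Opens.ext (Set.eq_univ_of_forall fun p => Opens.mem_iSup.2 (D.cov (m p)))))) _ _
    fun α => ?_
  let P' := m ⁻¹ᵁ D.U α
  show P'.ι ≫ g = P'.ι ≫ g'
  have k : P' ≤ g ⁻¹ᵁ (D.π.left ⁻¹ᵁ D.U α) := le_rfl
  have k' : P' ≤ g' ⁻¹ᵁ (D.π.left ⁻¹ᵁ D.U α) := by
    rw [← Scheme.Hom.comp_preimage, ← hπ]
  have key : g.appLE _ P' k (D.y α) = g'.appLE _ P' k' (D.y α) := by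
    refine hP P' _ _ ?_
    rw [rs_appLE, rs_appLE]
    have e : ∀ (f : P ⟶ D.V.left) (hf : f ≫ D.π.left = m) (kf : P' ≤ f ⁻¹ᵁ (D.π.left ⁻¹ᵁ D.U α)),
        rs le_top (f.appTop D.s) = m.appLE (D.U α) (P' ⊓ m ⁻¹ᵁ W) inf_le_left (D.h α) *
          f.appLE _ (P' ⊓ m ⁻¹ᵁ W) (inf_le_left.trans kf) (D.y α) := by
      intro f hf kf
      have h1 := congrArg (f.appLE _ (P' ⊓ m ⁻¹ᵁ W) (inf_le_left.trans kf)) (D.hs α)
      rw [map_mul, GLinSh.resTop, show D.V.left.presheaf.map (homOfLE le_top).op D.s =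
        rs le_top D.s from rfl, appLE_rs, Scheme.Hom.app_eq_appLE, appLE_appLE'] at h1
      rw [rs_appTop]
      refine h1.trans ?_
      congr 1
      exact appLE_hom hf _ inf_le_left _
    have hu : IsUnit (m.appLE (D.U α) (P' ⊓ m ⁻¹ᵁ W) inf_le_left (D.h α)) := by
      have := (D.unit α).map (m.appLE (D.U α ⊓ W) (P' ⊓ m ⁻¹ᵁ W) le_rfl).hom
      rwa [show (m.appLE (D.U α ⊓ W) (P' ⊓ m ⁻¹ᵁ W) le_rfl).hom (rs inf_le_left (D.h α)) =
        m.appLE (D.U α ⊓ W) (P' ⊓ m ⁻¹ᵁ W) le_rfl (rs inf_le_left (D.h α)) from rfl, appLE_rs] at this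
    exact hu.mul_left_cancel ((e g rfl k).symm.trans ((congrArg (rs le_top) hs).trans (e g' hπ.symm k')))
  refine hom_ext_coord (D.aff α) (D.coord α) (P'.ι ≫ g) (P'.ι ≫ g')
    (by rw [Category.assoc, Category.assoc, hπ])
    (by rw [Scheme.Hom.comp_preimage]; exact (P'.ι_preimage_self).ge.trans (P'.ι.preimage_mono k))
    (by rw [Scheme.Hom.comp_preimage]; exact (P'.ι_preimage_self).ge.trans (P'.ι.preimage_mono k')) ?_
  exact (appLE_appLE' P'.ι g k (P'.ι_preimage_self).ge _).symm.trans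
    ((congrArg (P'.ι.appLE P' ⊤ (P'.ι_preimage_self).ge) key).trans (appLE_appLE' P'.ι g' k' _ _))

variable [GrpObj G] {a : AlgGrp.Action G X}

/-- The equations are invariant: on `σ⁻¹U_β ∩ p₂⁻¹U_α` the pullback of `h_β` divides that of `h_α`. -/
def LinData.Compat (a : AlgGrp.Action G X) : Prop :=
  ∀ α β, ∃ c : Γ((G ⊗ X).left, a.act.left ⁻¹ᵁ D.U β ⊓ (snd G X).left ⁻¹ᵁ D.U α),
    (snd G X).left.appLE (D.U α) _ inf_le_right (D.h α) = a.act.left.appLE (D.U β) _ inf_le_left (D.h β) * c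

variable [Smooth G.hom] [IsReduced X.left]

theorem smooth_snd (T : Over S) : Smooth (snd G T).left := by
  rw [Over.snd_left]; exact MorphismProperty.pullback_snd _ _ inferInstance

theorem dn_of_smooth {P : Scheme.{u}} (m : P ⟶ X.left) [Smooth m] (hW : Dense (W : Set X.left)) :
    Dn P (m ⁻¹ᵁ W) := by
  haveI : IsReduced P := AlgSpLib.isReduced_of_smooth m
  exact dn_of_dense (hW.preimage m.isOpenMap)

theorem dn_res {P : Scheme.{u}} (m : P ⟶ X.left) (U : P.Opens) [Smooth m] (hW : Dense (W : Set X.left)) :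
    Dn U.toScheme ((U.ι ≫ m) ⁻¹ᵁ W) :=
  dn_of_smooth (U.ι ≫ m) hW

theorem exists_act (hW : Dense (W : Set X.left)) (hinv : a.act.left ⁻¹ᵁ W = (snd G X).left ⁻¹ᵁ W)
    (hD : D.Compat a) :
    ∃ Φ : (G ⊗ D.V).left ⟶ D.V.left, Φ ≫ D.π.left = ((G ◁ D.π) ≫ a.act).left ∧
      Φ.appTop D.s = (snd G D.V).left.appTop D.s ∧
      ∀ α β, ∃ c : Γ((G ⊗ X).left, a.act.left ⁻¹ᵁ D.U β ⊓ (snd G X).left ⁻¹ᵁ D.U α),
        ∀ hle : GLinSh.liftOpen a D.π (D.U α) (D.U β) ≤ Φ ⁻¹ᵁ (D.π.left ⁻¹ᵁ D.U β),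
        Φ.appLE _ (GLinSh.liftOpen a D.π (D.U α) (D.U β)) hle (D.y β) =
          (G ◁ D.π).left.appLE _ (GLinSh.liftOpen a D.π (D.U α) (D.U β)) (GLinSh.liftOpen_le_base a D.π) c *
            (snd G D.V).left.appLE _ (GLinSh.liftOpen a D.π (D.U α) (D.U β)) (GLinSh.liftOpen_le_snd a D.π) (D.y α) := by
  choose c hc using hD
  haveI := D.smooth_π
  haveI := smooth_snd (G := G) D.V
  let m : (G ⊗ D.V).left ⟶ X.left := ((G ◁ D.π) ≫ a.act).left
  let m₂ : (G ⊗ D.V).left ⟶ X.left := ((G ◁ D.π) ≫ snd G X).left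
  have hm₂ : m₂ = (snd G D.V).left ≫ D.π.left := by
    simp only [m₂, whiskerLeft_snd]
    rfl
  haveI : Smooth m₂ := by rw [hm₂]; infer_instance
  have hmW : m ⁻¹ᵁ W = m₂ ⁻¹ᵁ W := by
    simp only [m, m₂, Over.comp_left, Scheme.Hom.comp_preimage, hinv]
  let O : D.I × D.I → (G ⊗ D.V).left.Opens := fun p => GLinSh.liftOpen a D.π (D.U p.1) (D.U p.2)
  let z : ∀ p : D.I × D.I, Γ((G ⊗ D.V).left, O p) := fun p =>
    (G ◁ D.π).left.appLE _ (O p) (GLinSh.liftOpen_le_base a D.π) (c p.1 p.2) *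
      (snd G D.V).left.appLE _ (O p) (GLinSh.liftOpen_le_snd a D.π) (D.y p.1)
  have key : ∀ p, m.appLE (D.U p.2) (O p) inf_le_left (D.h p.2) * z p =
      (snd G D.V).left.appLE ⊤ (O p) le_top D.s := by
    intro p
    have h1 := congrArg ((G ◁ D.π).left.appLE _ (O p) (GLinSh.liftOpen_le_base a D.π)) (hc p.1 p.2)
    rw [map_mul, appLE_appLE', appLE_appLE'] at h1
    have h2 := congrArg ((snd G D.V).left.appLE _ (O p) (GLinSh.liftOpen_le_snd a D.π)) (D.hs p.1)
    rw [map_mul, GLinSh.resTop, show D.V.left.presheaf.map (homOfLE le_top).op D.s = rs le_top D.s from rfl,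
      appLE_rs, Scheme.Hom.app_eq_appLE, appLE_appLE'] at h2
    refine Eq.trans ?_ h2.symm
    simp only [z, ← mul_assoc]
    congr 1
    refine Eq.trans ?_ (h1.symm.trans (appLE_hom ?_ _ _ _))
    · congr 1
    · exact hm₂
  have hz : ∀ p, ∃ g : (O p).toScheme ⟶ D.V.left, g ≫ D.π.left = (O p).ι ≫ m ∧
      g.appTop D.s = (O p).ι.appTop ((snd G D.V).left.appTop D.s) ∧
      ∀ hle : ⊤ ≤ g ⁻¹ᵁ (D.π.left ⁻¹ᵁ D.U p.2),
        g.appLE _ ⊤ hle (D.y p.2) = (O p).ι.appLE (O p) ⊤ (O p).ι_preimage_self.ge (z p) := by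
    intro p
    have hle : ⊤ ≤ ((O p).ι ≫ m) ⁻¹ᵁ D.U p.2 := fun w _ => w.2.1
    obtain ⟨g, hg, hgy⟩ := exists_hom_coord (D.aff p.2) (D.coord p.2) ((O p).ι ≫ m) hle
      ((O p).ι.appLE (O p) ⊤ (O p).ι_preimage_self.ge (z p))
    refine ⟨g, hg, ?_, fun _ => hgy⟩
    have hgr : ⊤ ≤ g ⁻¹ᵁ (D.π.left ⁻¹ᵁ D.U p.2) := by rw [← Scheme.Hom.comp_preimage, hg]; exact hle
    have h3 := congrArg (g.appLE _ ⊤ hgr) (D.hs p.2)
    rw [map_mul, hgy, GLinSh.resTop, show D.V.left.presheaf.map (homOfLE le_top).op D.s = rs le_top D.s from rfl,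
      appLE_rs, Scheme.Hom.app_eq_appLE, appLE_appLE', appLE_hom hg _ hle] at h3
    rw [appTop_eq_appLE, appTop_eq_appLE, appTop_eq_appLE]
    refine h3.trans ?_
    rw [← appLE_appLE' (O p).ι m (O := D.U p.2) (O' := O p) inf_le_left (O p).ι_preimage_self.ge,
      ← map_mul, key]
    exact (appLE_appLE' _ _ _ _ _).trans (appLE_appLE' _ _ _ _ _).symm
  choose g hg hgs hgy using hz
  have hcov : IsOpenCover O := IsOpenCover.mk (Opens.ext (Set.eq_univ_of_forall fun w => by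
    obtain ⟨β, hβ⟩ := D.cov (m w)
    obtain ⟨α, hα⟩ := D.cov (m₂ w)
    exact Opens.mem_iSup.2 ⟨(α, β), hβ, hα⟩))
  let 𝒰 := (G ⊗ D.V).left.openCoverOfIsOpenCover O hcov
  have hcomp : ∀ p q : D.I × D.I,
      pullback.fst (𝒰.f p) (𝒰.f q) ≫ g p = pullback.snd (𝒰.f p) (𝒰.f q) ≫ g q := by
    intro p q
    have hw : pullback.fst (O p).ι (O q).ι ≫ (O p).ι = pullback.snd (O p).ι (O q).ι ≫ (O q).ι := pullback.condition
    refine D.hom_ext (P := pullback (O p).ι (O q).ι) _ _ ?_ ?_ ?_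
    · show (pullback.fst (O p).ι (O q).ι ≫ g p) ≫ D.π.left = (pullback.snd (O p).ι (O q).ι ≫ g q) ≫ D.π.left
      simp only [Category.assoc, hg, reassoc_of% hw]
    · show (pullback.fst (O p).ι (O q).ι ≫ g p).appTop D.s = (pullback.snd (O p).ι (O q).ι ≫ g q).appTop D.s
      simp only [appTop_comp_apply, hgs]
      rw [← appTop_comp_apply, ← appTop_comp_apply, hw]
      simp only [appTop_comp_apply]
    · show Dn _ (((pullback.fst (O p).ι (O q).ι ≫ g p) ≫ D.π.left) ⁻¹ᵁ W)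
      have e : (pullback.fst (O p).ι (O q).ι ≫ g p) ≫ D.π.left = (pullback.fst (O p).ι (O q).ι ≫ (O p).ι) ≫ m := by
        rw [Category.assoc, hg, Category.assoc]
      rw [e, Scheme.Hom.comp_preimage, hmW, ← Scheme.Hom.comp_preimage]
      exact dn_of_smooth _ hW
  let Φ : (G ⊗ D.V).left ⟶ D.V.left := Scheme.Cover.glueMorphisms 𝒰 g hcomp
  have hΦ : ∀ p, (O p).ι ≫ Φ = g p := fun p => Scheme.Cover.ι_glueMorphisms 𝒰 g hcomp p
  refine ⟨Φ, ?_, ?_, fun α β => ⟨c α β, fun hle => ?_⟩⟩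
  · refine Scheme.Cover.hom_ext 𝒰 _ _ fun p => ?_
    show (O p).ι ≫ Φ ≫ D.π.left = (O p).ι ≫ m
    rw [← Category.assoc, hΦ, hg]
  · refine TopCat.Presheaf.section_ext (G ⊗ D.V).left.sheaf _ _ _ fun w _ => ?_
    obtain ⟨p, hp⟩ := hcov.exists_mem w
    refine TopCat.Presheaf.germ_ext _ (O p) hp (homOfLE le_top) (homOfLE le_top) ?_
    refine (GITQuotLib.appLE_bij (O p).ι (W := O p) (W' := ⊤) (O p).ι_preimage_self.symm
      (Scheme.Opens.opensRange_ι _).ge).1 ?_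
    have h := hgs p
    rw [← hΦ p, Scheme.Hom.comp_appTop, ConcreteCategory.comp_apply] at h
    show (O p).ι.appLE (O p) ⊤ _ (rs le_top (Φ.appTop D.s)) = (O p).ι.appLE (O p) ⊤ _ (rs le_top _)
    rw [appLE_rs, appLE_rs]
    rw [Scheme.Hom.appTop, Scheme.Hom.app_eq_appLE] at h
    exact h
  · let p : D.I × D.I := (α, β)
    refine (GITQuotLib.appLE_bij (O p).ι (W := O p) (W' := ⊤) (O p).ι_preimage_self.symm
      (Scheme.Opens.opensRange_ι _).ge).1 ?_
    have hle' : ⊤ ≤ g p ⁻¹ᵁ (D.π.left ⁻¹ᵁ D.U β) := by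
      rw [← hΦ p, Scheme.Hom.comp_preimage]
      exact (O p).ι_preimage_self.ge.trans ((O p).ι.preimage_mono hle)
    refine (appLE_appLE' _ _ _ _ _).trans ?_
    rw [appLE_hom (hΦ p) _ hle']
    exact hgy p hle'

/-- The linearised line bundle. -/
theorem exists_linBun (hW : Dense (W : Set X.left))
    (hinv : a.act.left ⁻¹ᵁ W = (snd G X).left ⁻¹ᵁ W) (hD : D.Compat a) :
    ∃ Φ : AlgGrp.Action G D.V, ∃ hπ : Φ.act ≫ D.π = (G ◁ D.π) ≫ a.act,
      GLinSh.IsLinearLift a D.π Φ D.atlas.chart hπ ∧ GLinSh.IsInvFn Φ D.s := by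
  obtain ⟨Φ, hΦπ, hΦs, hc⟩ := exists_act D hW hinv hD
  haveI := D.smooth_π
  let Φ' : G ⊗ D.V ⟶ D.V := Over.homMk Φ (by
    rw [← Over.w D.π, ← Category.assoc, hΦπ, Over.w])
  have hπ : Φ' ≫ D.π = (G ◁ D.π) ≫ a.act := Over.OverMorphism.ext hΦπ
  have hinv' : ∀ (T : Over S) (m : T ⟶ G ⊗ X), (m ≫ a.act).left ⁻¹ᵁ W = (m ≫ snd G X).left ⁻¹ᵁ W := fun T m => by
    rw [Over.comp_left, Over.comp_left, Scheme.Hom.comp_preimage, Scheme.Hom.comp_preimage, hinv]
  have ext' : ∀ (T : Over S) (g g' : T ⟶ D.V), g ≫ D.π = g' ≫ D.π → g.left.appTop D.s = g'.left.appTop D.s →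
      Dn T.left ((g ≫ D.π).left ⁻¹ᵁ W) → g = g' := fun T g g' h1 h2 h3 =>
    Over.OverMorphism.ext (D.hom_ext g.left g'.left (congrArg CommaMorphism.left h1) h2 h3)
  let act : AlgGrp.Action G D.V :=
    { act := Φ'
      one_act := by
        have e : ((η[G] ▷ D.V) ≫ Φ') ≫ D.π = (λ_ D.V).hom ≫ D.π := by
          rw [Category.assoc, hπ, ← whisker_exchange_assoc, a.one_act, leftUnitor_naturality]
        refine ext' _ _ _ e ?_ ?_
        · rw [Over.comp_left, appTop_comp_apply, show Φ'.left.appTop D.s = _ from hΦs, ← appTop_comp_apply,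
            ← Over.comp_left, whiskerRight_snd]
          rfl
        · rw [e, Over.comp_left]
          haveI : IsIso (λ_ D.V).hom.left := (Over.forget S).map_isIso (λ_ D.V).hom
          exact dn_of_smooth _ hW
      mul_act := by
        have e : ((μ[G] ▷ D.V) ≫ Φ') ≫ D.π =
            ((α_ G G D.V).hom ≫ (G ◁ Φ') ≫ Φ') ≫ D.π := by
          rw [Category.assoc, Category.assoc, Category.assoc, hπ, ← whisker_exchange_assoc, a.mul_act,
            associator_naturality_right_assoc, ← MonoidalCategory.whiskerLeft_comp_assoc G (G ◁ D.π), ← hπ,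
            MonoidalCategory.whiskerLeft_comp_assoc, hπ]
        refine ext' _ _ _ e ?_ ?_
        · have hs2 : ∀ (T : Over S) (m : T ⟶ G ⊗ D.V), (m ≫ Φ').left.appTop D.s =
              (m ≫ snd G D.V).left.appTop D.s := fun T m => by
            rw [Over.comp_left, appTop_comp_apply, show Φ'.left.appTop D.s = _ from hΦs, ← appTop_comp_apply,
              ← Over.comp_left]
          rw [hs2, ← Category.assoc (α_ G G D.V).hom, hs2, whiskerRight_snd]
          rw [Category.assoc, whiskerLeft_snd, Over.comp_left, Over.comp_left, appTop_comp_apply,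
            appTop_comp_apply, show Φ'.left.appTop D.s = _ from hΦs, ← appTop_comp_apply,
            ← appTop_comp_apply, ← Over.comp_left, ← Over.comp_left, Category.assoc, associator_hom_snd_snd]
        · have e2 : ((μ[G] ▷ D.V) ≫ Φ') ≫ D.π = ((μ[G] ▷ D.V) ≫ (G ◁ D.π)) ≫ a.act := by
            rw [Category.assoc, hπ, Category.assoc]
          have e3 : ((μ[G] ▷ D.V) ≫ (G ◁ D.π)) ≫ snd G X = snd (G ⊗ G) D.V ≫ D.π := by
            simp
          rw [e2, hinv', e3, Over.comp_left]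
          haveI : Smooth (snd (G ⊗ G) D.V).left := by
            haveI : Smooth (G ⊗ G).hom := by
              show Smooth (pullback.fst G.hom G.hom ≫ G.hom); infer_instance
            exact smooth_snd D.V
          exact dn_of_smooth _ hW }
  refine ⟨act, hπ, ?_, hΦs⟩
  rintro _ _ _ _ ⟨α, rfl, rfl⟩ ⟨β, rfl, rfl⟩
  obtain ⟨c, hc⟩ := hc α β
  refine ⟨c, ?_⟩
  rw [show GLinSh.res D.π le_rfl (D.y α) = D.y α from rs_self _ _,
    show GLinSh.res D.π le_rfl (D.y β) = D.y β from rs_self _ _]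
  exact hc _

end GLinExtLib
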