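import Groth.Agent.GLinExtLib.Cover
import Groth.Agent.AmpleThLib.Restr
import Groth.Agent.AmpleThLib.Ample

/-!
# Ratios of sections of an ample sheaf
-/

set_option autoImplicit false
set_option backward.isDefEq.respectTransparency false
set_option synthInstance.maxHeartbeats 400000
set_option maxHeartbeats 1000000
set_option linter.style.haveILetI false
set_option linter.unusedSectionVars false

universe u

open CategoryTheory CategoryTheory.Limits AlgebraicGeometry TopologicalSpace Opposite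
open AmpleLib (res GenOn)
open TwistLib (genSet)

noncomputable section

namespace GLinExtLib

/-- Opens with ratios. -/
structure RatFam (Y : Scheme.{u}) where
  I : Type u
  W : I → Y.Opens
  aff : ∀ i, IsAffineOpen (W i)
  cov : ∀ y, ∃ i, y ∈ W i
  g : I → (l : I) → Γ(Y, W l)
  hg : ∀ i l, Y.basicOpen (g i l) = W i ⊓ W l
  self : ∀ i, g i i = 1
  cocycle : ∀ i l j, rs (inf_le_left : W l ⊓ W j ≤ W l) (g i l) * rs (inf_le_right : W l ⊓ W j ≤ W j) (g l j) =
    rs (inf_le_right : W l ⊓ W j ≤ W j) (g i j)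

variable {Y : Scheme.{u}} {M : Y.Modules}

theorem exists_ratFam (hA : CohB1.IsAmple M) : ∃ P : RatFam Y, Finite P.I := by
  classical
  have hM := hA.1
  obtain ⟨hc, hloc⟩ := (AmpleThLib.isAmple_iff (hL := hM)).1 hA
  choose n V hn hV hy haff using hloc
  obtain ⟨s, hs⟩ := isCompact_univ.elim_finite_subcover (fun y => (V y : Set Y)) (fun y => (V y).isOpen)
    (fun y _ => Set.mem_iUnion.2 ⟨y, hy y⟩)
  let N := ∏ y ∈ s, n y
  have hN : ∀ i : s, AmpleThLib.IsLocus hM N (V i.1) := fun i => by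
    rw [show N = n i.1 * ∏ y ∈ s.erase i.1, n y from (Finset.mul_prod_erase s n i.2).symm]
    exact (hV i.1).mul_right (Finset.prod_pos fun y _ => hn y)
  choose σ hσ using hN
  have hgen : ∀ i : s, GenOn _ (res _ (le_top : V i.1 ≤ ⊤) (σ i)) := fun i => by
    have h := (TwistLib.genSet_genOn (AmpleThLib.tensorPow_isInvertible hM N) (σ i)).res (hσ i).ge
    rwa [AmpleLib.res_res] at h
  choose g hg using fun i l : s => AmpleThLib.exists_coeff (σ i) (hgen l)
  refine ⟨⟨s, fun i => V i.1, fun i => haff i.1, fun y => ?_, g, fun i l => ?_, fun i => ?_, fun i l j => ?_⟩,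
    show Finite s from inferInstance⟩
  · obtain ⟨i, hi, hyi⟩ := Set.mem_iUnion₂.1 (hs (Set.mem_univ y))
    exact ⟨⟨i, hi⟩, hyi⟩
  · rw [← AmpleThLib.mem_genSet_coeff (AmpleThLib.tensorPow_isInvertible hM N) (σ i) (hgen l) (hg i l), hσ]
  · refine (hgen i (V i.1) le_rfl).1 ?_
    show g i i • _ = (1 : Γ(Y, V i.1)) • _
    rw [AmpleLib.res_refl, hg i i, one_smul]
  · refine (((hgen j).res (inf_le_right : V l.1 ⊓ V j.1 ≤ V j.1)) _ le_rfl).1 ?_
    show _ • res _ le_rfl (res _ _ (res _ _ (σ j))) = _ • res _ le_rfl (res _ _ (res _ _ (σ j)))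
    simp only [AmpleLib.res_res]
    have e1 := congrArg (res _ (inf_le_right : V l.1 ⊓ V j.1 ≤ V j.1)) (hg l j)
    have e2 := congrArg (res _ (inf_le_left : V l.1 ⊓ V j.1 ≤ V l.1)) (hg i l)
    have e3 := congrArg (res _ (inf_le_right : V l.1 ⊓ V j.1 ≤ V j.1)) (hg i j)
    simp only [AmpleLib.res_smul, AmpleLib.res_res] at e1 e2 e3
    show (Y.presheaf.map _ (g i l) * Y.presheaf.map _ (g l j)) • _ = (Y.presheaf.map _ (g i j)) • _
    rw [mul_smul, e1, e2, e3]

/-- An open of a scheme with an ample module has an ample module if it is quasi-compact. -/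
theorem exists_isAmple_open [CompactSpace Y] [QuasiSeparatedSpace Y] (hA : CohB1.IsAmple M) (W : Y.Opens)
    (hW : IsCompact (W : Set Y)) : ∃ M' : W.toScheme.Modules, CohB1.IsAmple M' := by
  have hM := hA.1
  refine ⟨M.restrict W.ι, (AmpleThLib.isAmple_iff (hL := AmpleThLib.restrict_isInvertible hM W.ι)).2
    ⟨isCompact_iff_compactSpace.1 hW, fun x => ?_⟩⟩
  obtain ⟨n, V, hn, hV, hxV, hVaff, hle⟩ := AmpleThLib.exists_locus_le hM hA (x := W.ι x) x.2
  exact ⟨n, W.ι ⁻¹ᵁ V, hn, hV.restrict (j := W.ι), hxV, hVaff.preimage_of_isOpenImmersion W.ι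
    (by rwa [Scheme.Opens.opensRange_ι])⟩

end GLinExtLib
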