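import Groth.Agent.GLinExtLib.Bundle
import Groth.Agent.GLinExtLib.Ratios
import Groth.Agent.GLinShLib.Inv
import Groth.Agent.GLinShLib.PSProper

/-!
# A geometric quotient with an ample sheaf gives a linearised bundle
-/

set_option autoImplicit false
set_option backward.isDefEq.respectTransparency false
set_option synthInstance.maxHeartbeats 400000
set_option maxHeartbeats 1000000
set_option linter.style.haveILetI false
set_option linter.unusedSectionVars false

universe u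

open CategoryTheory CategoryTheory.Limits MonoidalCategory CartesianMonoidalCategory AlgebraicGeometry
  TopologicalSpace Opposite Topology
open scoped MonObj
open GLinShLib (openObj openHom)

noncomputable section

namespace GLinExtLib

variable {S : Scheme.{u}} {G X : Over S} [GrpObj G] {a : AlgGrp.Action G X} {U : X.left.Opens}

/-- Closed action on an invariant open: orbits closed in the open. -/
theorem closedOrbitsOn_of_isClosedAction (aU : AlgGrp.Action G (openObj U))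
    (he : aU.act ≫ openHom U = (G ◁ openHom U) ≫ a.act) (hcl : GIT.IsClosedAction aU) :
    GLinSh.ClosedOrbitsOn a U := by
  intro Ω _ _ T eT f hf
  let f' : T ⟶ openObj U := Over.homMk (IsOpenImmersion.lift U.ι f.left (hf.trans U.range_ι.ge)) (by
    show IsOpenImmersion.lift U.ι _ _ ≫ U.ι ≫ X.hom = _
    rw [IsOpenImmersion.lift_fac_assoc, Over.w f])
  have ef : f' ≫ openHom U = f := Over.OverMorphism.ext (IsOpenImmersion.lift_fac _ _ _)
  have e : GIT.psi aU f' ≫ (openHom U ▷ T) = GIT.psi a f := by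
    refine CartesianMonoidalCategory.hom_ext _ _ ?_ ?_
    · simp [GIT.psi, he, ← ef]
    · simp [GIT.psi]
  haveI : IsOpenImmersion (openHom U ▷ T).left := MorphismProperty.of_isPullback
    ((GITAffLib.isPullback_whiskerRight (openHom U) T).map (Over.forget _))
    (show IsOpenImmersion U.ι from inferInstance)
  have hsurj : ∀ p : (fst X T).left ⁻¹ᵁ U, ∃ w, (openHom U ▷ T).left w = p.1 := fun p => by
    obtain ⟨w, hw, -⟩ := Scheme.exists_preimage_of_isPullback
      ((GITAffLib.isPullback_whiskerRight (openHom U) T).map (Over.forget S)).flip p.1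
      (⟨_, p.2⟩ : (openObj U).left) rfl
    exact ⟨w, hw⟩
  rw [← isOpen_compl_iff]
  have heq : ((fun p : (fst X T).left ⁻¹ᵁ U => (p : (X ⊗ T).left)) ⁻¹' Set.range (GIT.psi a f).left.base)ᶜ =
      (fun p : (fst X T).left ⁻¹ᵁ U => (p : (X ⊗ T).left)) ⁻¹'
        ((openHom U ▷ T).left '' (Set.range (GIT.psi aU f').left.base)ᶜ) := by
    have hr : Set.range (GIT.psi a f).left.base = (openHom U ▷ T).left '' Set.range (GIT.psi aU f').left.base := by
      rw [← e, Over.comp_left, Scheme.Hom.comp_base, TopCat.coe_comp, Set.range_comp]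
    ext p
    obtain ⟨w, hw⟩ := hsurj p
    simp only [Set.mem_compl_iff, Set.mem_preimage, hr, ← hw, (openHom U ▷ T).left.isOpenEmbedding.injective.mem_set_image]
  rw [heq]
  exact ((openHom U ▷ T).left.isOpenEmbedding.isOpenMap _ (hcl Ω T eT f').isOpen_compl).preimage
    continuous_subtype_val

variable {Y : Over S}

/-- The open of `X` over an open of the quotient. -/
def pl (φ : openObj U ⟶ Y) (O : Y.left.Opens) : X.left.Opens := U.ι ''ᵁ (φ.left ⁻¹ᵁ O)

/-- Pullback of functions. -/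
def plF (φ : openObj U ⟶ Y) {O : Y.left.Opens} (s : Γ(Y.left, O)) : Γ(X.left, pl φ O) :=
  (U.ι.appIso (φ.left ⁻¹ᵁ O)).inv (φ.left.app O s)

theorem pl_mono (φ : openObj U ⟶ Y) {O O' : Y.left.Opens} (h : O' ≤ O) : pl φ O' ≤ pl φ O :=
  U.ι.image_mono (φ.left.preimage_mono h)

theorem pl_le (φ : openObj U ⟶ Y) (O : Y.left.Opens) : pl φ O ≤ U := by
  rintro _ ⟨x, -, rfl⟩; exact x.2

theorem pl_inf (φ : openObj U ⟶ Y) (O O' : Y.left.Opens) : pl φ (O ⊓ O') = pl φ O ⊓ pl φ O' :=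
  Opens.ext (Set.image_inter U.ι.isOpenEmbedding.injective)

theorem rs_plF (φ : openObj U ⟶ Y) {O O' : Y.left.Opens} (h : O' ≤ O) (s : Γ(Y.left, O)) :
    rs (pl_mono φ h) (plF φ s) = plF φ (rs h s) := by
  show (φ.left.app O ≫ (U.ι.appIso (φ.left ⁻¹ᵁ O)).inv ≫
      X.left.presheaf.map (U.ι.opensFunctor.op.map (homOfLE (φ.left.preimage_mono h)).op)) s =
    (Y.left.presheaf.map (homOfLE h).op ≫ φ.left.app O' ≫ (U.ι.appIso (φ.left ⁻¹ᵁ O')).inv) s
  rw [Scheme.Hom.naturality_assoc, ← Scheme.Hom.appIso_inv_naturality]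
  rfl

theorem basicOpen_plF (φ : openObj U ⟶ Y) {O : Y.left.Opens} (s : Γ(Y.left, O)) :
    X.left.basicOpen (plF φ s) = pl φ (Y.left.basicOpen s) := by
  rw [plF, ← Scheme.image_basicOpen, pl, Scheme.preimage_basicOpen]; rfl

theorem isAffineOpen_pl (φ : openObj U ⟶ Y) [IsAffineHom φ.left] {O : Y.left.Opens} (hO : IsAffineOpen O) :
    IsAffineOpen (pl φ O) := (hO.preimage φ.left).image_of_isOpenImmersion U.ι

theorem ι_appLE_plF (φ : openObj U ⟶ Y) {O : Y.left.Opens} (s : Γ(Y.left, O))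
    (h : φ.left ⁻¹ᵁ O ≤ U.ι ⁻¹ᵁ pl φ O) :
    U.ι.appLE (pl φ O) (φ.left ⁻¹ᵁ O) h (plF φ s) = φ.left.app O s := by
  show ((U.ι.appIso (φ.left ⁻¹ᵁ O)).inv ≫ U.ι.appLE (U.ι ''ᵁ (φ.left ⁻¹ᵁ O)) (φ.left ⁻¹ᵁ O) h) (φ.left.app O s) = _
  rw [← Scheme.Hom.appIso_hom', Iso.inv_hom_id]
  rfl

variable {φ : openObj U ⟶ Y} (aU : AlgGrp.Action G (openObj U))
  (he : aU.act ≫ openHom U = (G ◁ openHom U) ≫ a.act) (hφ : GIT.IsInvariant aU φ)

include he hφ in
theorem inv_pl (hU : a.act.left ⁻¹ᵁ U = (snd G X).left ⁻¹ᵁ U) (O : Y.left.Opens) :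
    a.act.left ⁻¹ᵁ pl φ O = (snd G X).left ⁻¹ᵁ pl φ O := by
  ext p
  show a.act.left p ∈ pl φ O ↔ (snd G X).left p ∈ pl φ O
  by_cases hp : (snd G X).left p ∈ U
  swap
  · exact ⟨fun h => absurd ((SetLike.ext_iff.1 hU p).1 (pl_le φ O h)) hp, fun h => absurd (pl_le φ O h) hp⟩
  obtain ⟨q, hq, -⟩ := Scheme.exists_preimage_of_isPullback
    (Groth.Agent.FinHom.isPullback_whiskerLeft G (openHom U)) p (⟨_, hp⟩ : (openObj U).left)
    (by rw [← Over.snd_left]; rfl)
  have h1 : a.act.left p = U.ι (aU.act.left q) := by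
    rw [← hq, ← Scheme.Hom.comp_apply, ← Over.comp_left, ← he]; rfl
  have h2 : (snd G X).left p = U.ι ((snd G (openObj U)).left q) := by
    rw [← hq, ← Scheme.Hom.comp_apply, ← Over.comp_left, whiskerLeft_snd]; rfl
  have h3 : φ.left (aU.act.left q) = φ.left ((snd G (openObj U)).left q) := by
    rw [← Scheme.Hom.comp_apply, ← Scheme.Hom.comp_apply, hφ.left]
  have hm : ∀ w : (openObj U).left, U.ι w ∈ pl φ O ↔ φ.left w ∈ O := fun w =>
    U.ι.isOpenEmbedding.injective.mem_set_image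
  rw [h1, h2, hm, hm, h3]

include he hφ in
theorem plF_invariant (hU : a.act.left ⁻¹ᵁ U = (snd G X).left ⁻¹ᵁ U) {O : Y.left.Opens} (s : Γ(Y.left, O)) :
    a.act.left.appLE (pl φ O) ((snd G X).left ⁻¹ᵁ pl φ O) (inv_pl aU he hφ hU O).ge (plF φ s) =
      (snd G X).left.appLE (pl φ O) ((snd G X).left ⁻¹ᵁ pl φ O) le_rfl (plF φ s) := by
  haveI : IsOpenImmersion (G ◁ openHom U).left := MorphismProperty.of_isPullback (P := @IsOpenImmersion)
    (Groth.Agent.FinHom.isPullback_whiskerLeft G (openHom U)).flip (show IsOpenImmersion U.ι from inferInstance)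
  let j := (G ◁ openHom U).left
  let W' := j ⁻¹ᵁ ((snd G X).left ⁻¹ᵁ pl φ O)
  have hrange : (snd G X).left ⁻¹ᵁ pl φ O ≤ j.opensRange := fun p hp => by
    obtain ⟨q, hq, -⟩ := Scheme.exists_preimage_of_isPullback
      (Groth.Agent.FinHom.isPullback_whiskerLeft G (openHom U)) p (⟨_, pl_le φ O hp⟩ : (openObj U).left)
      (by rw [← Over.snd_left]; rfl)
    exact ⟨q, hq⟩
  refine (GITQuotLib.appLE_bij j (W := (snd G X).left ⁻¹ᵁ pl φ O) (W' := W') rfl hrange).1 ?_
  show j.appLE _ W' le_rfl _ = j.appLE _ W' le_rfl _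
  rw [appLE_appLE', appLE_appLE']
  have e1 : j ≫ a.act.left = aU.act.left ≫ U.ι := by
    rw [← Over.comp_left, ← he]; rfl
  have e2 : j ≫ (snd G X).left = (snd G (openObj U)).left ≫ U.ι := by
    rw [← Over.comp_left, whiskerLeft_snd]; rfl
  have hpre : φ.left ⁻¹ᵁ O = U.ι ⁻¹ᵁ pl φ O := (U.ι.preimage_image_eq _).symm
  have k2 : W' ≤ (snd G (openObj U)).left ⁻¹ᵁ (φ.left ⁻¹ᵁ O) := by
    rw [hpre, ← Scheme.Hom.comp_preimage, ← e2, Scheme.Hom.comp_preimage]
  have k1 : W' ≤ aU.act.left ⁻¹ᵁ (φ.left ⁻¹ᵁ O) := by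
    rw [hpre, ← Scheme.Hom.comp_preimage, ← e1, Scheme.Hom.comp_preimage, inv_pl aU he hφ hU O]
  rw [appLE_hom e1 _ (by rw [Scheme.Hom.comp_preimage, ← hpre]; exact k1),
    appLE_hom e2 _ (by rw [Scheme.Hom.comp_preimage, ← hpre]; exact k2),
    ← appLE_appLE' aU.act.left U.ι hpre.le k1, ← appLE_appLE' (snd G (openObj U)).left U.ι hpre.le k2]
  refine (congrArg _ (ι_appLE_plF φ s hpre.le)).trans (Eq.trans ?_ (congrArg _ (ι_appLE_plF φ s hpre.le).symm))
  rw [Scheme.Hom.app_eq_appLE, appLE_appLE', appLE_appLE']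
  exact appLE_hom hφ.left _ _ _

include he hφ in
/-- Pulling back ratios. -/
theorem exists_ratCover [IsAffineHom φ.left] (P : RatFam Y.left) (i0 : P.I) :
    ∃ Q : RatCover (pl φ (P.W i0)), ∃ e : Q.I ≃ P.I, (∀ i, Q.W i = pl φ (P.W (e i))) ∧
      ∀ i, Q.R i = plF φ (P.g (e i) i0) := by
  refine ⟨{ I := P.I, W := fun i => pl φ (P.W i), aff := fun i => isAffineOpen_pl φ (P.aff i), i0 := i0, hi0 := rfl,
            g := fun i l => plF φ (P.g i l), hg := fun i l => by rw [basicOpen_plF, P.hg, pl_inf],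
            R := fun i => plF φ (P.g i i0), R0 := by rw [P.self, plF, map_one, map_one],
            rel := fun i l => ?_ }, Equiv.refl _, fun i => rfl, fun i => rfl⟩
  have := congrArg (plF φ) (P.cocycle i l i0)
  have e2 : ∀ x y : Γ(Y.left, P.W l ⊓ P.W i0), plF φ (x * y) = plF φ x * plF φ y := fun x y => by
    simp only [plF, map_mul]
  rw [e2, ← rs_plF, ← rs_plF, ← rs_plF] at this
  have := congrArg (rs (pl_inf φ (P.W l) (P.W i0)).ge) this
  rw [rs, map_mul] at this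
  simpa only [rs_rs] using this

theorem subset_sLocus_of_geomQuot {k : Type u} [Field k] {G X : Over (Spec (CommRingCat.of k))} [GrpObj G]
    [Smooth G.hom] [GeometricallyIrreducible G.hom] [IsIntegral X.left]
    [IsLocallyNoetherian X.left] [NoetherianSpace X.left] [X.left.IsSeparated]
    (hufd : ∀ x : X.left, UniqueFactorizationMonoid (X.left.presheaf.stalk x))
    (a : AlgGrp.Action G X) {U : X.left.Opens} (hU : a.act.left ⁻¹ᵁ U = (snd G X).left ⁻¹ᵁ U)
    (hne : (U : Set X.left).Nonempty) (aU : AlgGrp.Action G (openObj U))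
    (he : aU.act ≫ openHom U = (G ◁ openHom U) ≫ a.act) (hcl : GIT.IsClosedAction aU)
    {Y : Over (Spec (CommRingCat.of k))} {φ : openObj U ⟶ Y} (hφ : GIT.IsInvariant aU φ) [IsAffineHom φ.left]
    {M : Y.left.Modules} (hM : CohB1.IsAmple M) :
    ∃ B : GLinSh.LinBun G a, (U : Set X.left) ⊆ B.sLocus := by
  obtain ⟨P, hPfin⟩ := exists_ratFam hM
  have hηU : genericPoint X.left ∈ U := gen_mem hne.some_mem
  let ηp : (openObj U).left := ⟨_, hηU⟩
  obtain ⟨i0, hi0⟩ := P.cov (φ.left ηp)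
  obtain ⟨Q, e, hQW, hQR⟩ := exists_ratCover aU he hφ P i0
  haveI : Finite Q.I := Finite.of_equiv _ e.symm
  have hη : genericPoint X.left ∈ pl φ (P.W i0) := ⟨ηp, hi0, rfl⟩
  have hclU := closedOrbitsOn_of_isClosedAction aU he hcl
  obtain ⟨B, hB⟩ := subset_sLocus_of_cover hufd a (isAffineOpen_pl φ (P.aff i0)) Q hη
    (inv_pl aU he hφ hU _) (fun i => by rw [hQR]; exact plF_invariant aU he hφ hU _)
    fun i => by rw [hQW]; exact GLinShLib.ClosedOrbitsOn.mono hclU (pl_le φ _)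
  refine ⟨B, fun x hx => hB (Opens.mem_iSup.2 ?_)⟩
  obtain ⟨i, hi⟩ := P.cov (φ.left ⟨x, hx⟩)
  exact ⟨e.symm i, by rw [hQW, Equiv.apply_symm_apply]; exact ⟨⟨x, hx⟩, hi, rfl⟩⟩

end GLinExtLib
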